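import Cfsg.Agent.SzCh.Tab

/-! Characters of `Sz(q)`, part 4 (helper2): a lower bound for the class structure constants (`sig_ge`,
`card_pairs_ge`). -/

set_option autoImplicit false

namespace Cfsg.Agent.SzCh

open Cfsg Cfsg.Agent.Char Cfsg.Agent.CharDeep Cfsg.Agent.Sz Finset
open scoped ComplexConjugate

variable {G : Type*} [Group G] [Fintype G] {m : ℕ} {T : ℤ → Subgroup G} {St W : G → ℂ}

theorem Tab.split (t : Tab m T St W) (hm : 1 ≤ m) : ∃ R : Finset (IrrCharacter G),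
    (∀ χ ∈ R, ∃ ε ∈ I3, Gen m T ε χ) ∧ ∀ f : (G → ℂ) → ℂ, ∑ χ : IrrCharacter G, f χ =
      f (fun _ => 1) + (f St + (f W + (f (fun y => conj (W y)) + ∑ χ ∈ R, f χ))) := by
  classical
  have hs : (2 : ℤ) ≤ 2 ^ m := le_self_pow₀ (by norm_num) (by omega)
  have w1 : conj (W 1) = 2 ^ m * (2 * (2 ^ m) ^ 2 - 1) := by rw [t.irrW.isCharacter.conj_apply_one, t.W1]
  have n1 : (4 * (2 ^ m) ^ 4 : ℂ) ≠ 1 := by
    intro e
    have : (4 * (2 ^ m) ^ 4 : ℤ) = 1 := by exact_mod_cast e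
    omega
  have n2 : (2 ^ m * (2 * (2 ^ m) ^ 2 - 1) : ℂ) ≠ 1 := by
    intro e
    have : (2 ^ m * (2 * (2 ^ m) ^ 2 - 1) : ℤ) = 1 := by exact_mod_cast e
    generalize (2 : ℤ) ^ m = s at *
    nlinarith [mul_le_mul hs (show 7 ≤ 2 * s ^ 2 - 1 by nlinarith) (by norm_num) (by omega)]
  have n3 : (2 ^ m * (2 * (2 ^ m) ^ 2 - 1) : ℂ) ≠ 4 * (2 ^ m) ^ 4 := by
    intro e
    have : (2 ^ m * (2 * (2 ^ m) ^ 2 - 1) : ℤ) = 4 * (2 ^ m) ^ 4 := by exact_mod_cast e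
    generalize (2 : ℤ) ^ m = s at *
    nlinarith [pow_pos (show 0 < s by omega) 3]
  let a : IrrCharacter G := ⟨St, t.irrS⟩
  let b : IrrCharacter G := ⟨W, t.irrW⟩
  let c : IrrCharacter G := ⟨_, t.irrW.conj⟩
  have ev : ∀ {χ ψ : IrrCharacter G}, χ.1 1 ≠ ψ.1 1 → χ ≠ ψ := fun h e => h (by rw [e])
  have h1 : a ≠ irrOne G := ev (t.S1.trans_ne n1)
  have h2 : b ≠ irrOne G := ev (t.W1.trans_ne n2)
  have h3 : c ≠ irrOne G := ev (w1.trans_ne n2)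
  have h4 : b ≠ a := ev (t.W1.trans_ne (n3.trans_eq t.S1.symm))
  have h5 : c ≠ a := ev (w1.trans_ne (n3.trans_eq t.S1.symm))
  have h6 : c ≠ b := fun e => t.ne (congrArg Subtype.val e).symm
  refine ⟨(((univ.erase (irrOne G)).erase a).erase b).erase c, fun χ hχ => ?_, fun f => ?_⟩
  · simp only [mem_erase] at hχ
    rcases t.all χ χ.2 with e | e | e | e | e
    exacts [absurd (Subtype.ext e) hχ.2.2.2.1, absurd (Subtype.ext e) hχ.2.2.1, absurd (Subtype.ext e) hχ.2.1,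
      absurd (Subtype.ext e) hχ.1, e]
  · rw [← add_sum_erase _ _ (mem_univ (irrOne G)), ← add_sum_erase _ _ (a := a) (by simp [h1]),
      ← add_sum_erase _ _ (a := b) (by simp [h2, h4]), ← add_sum_erase _ _ (a := c) (by simp [h3, h5, h6])]
    rfl

/-- The class structure sum. -/
noncomputable def sig (x g : G) : ℂ := ∑ χ : IrrCharacter G, χ.1 x * χ.1 x * conj (χ.1 g) / χ.1 1

theorem Tab.sig_eq (t : Tab m T St W) {R : Finset (IrrCharacter G)} (hR : ∀ f : (G → ℂ) → ℂ,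
    ∑ χ : IrrCharacter G, f χ = f (fun _ => 1) + (f St + (f W + (f (fun y => conj (W y)) + ∑ χ ∈ R, f χ))))
    {x g : G} {s ω a b p : ℝ} (hs : (2 : ℂ) ^ m = s) (hW : W x * W x = ω) (hS : St x * St x = p) (ha : St g = a)
    (hb : W g + conj (W g) = b) : (sig x g).re = 1 + p * a / (4 * s ^ 4) + ω * b / (s * (2 * s ^ 2 - 1)) +
      (∑ χ ∈ R, χ.1 x * χ.1 x * conj (χ.1 g) / χ.1 1).re := by
  have hW' : conj (W x) * conj (W x) = ω := by rw [← map_mul, hW, Complex.conj_ofReal]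
  have e : sig x g = ((1 + p * a / (4 * s ^ 4) + ω * b / (s * (2 * s ^ 2 - 1)) : ℝ) : ℂ) +
      ∑ χ ∈ R, χ.1 x * χ.1 x * conj (χ.1 g) / χ.1 1 := by
    rw [sig, hR fun χ => χ x * χ x * conj (χ g) / χ 1]
    simp only [hW, hW', hS, ha, t.irrW.isCharacter.conj_apply_one, Complex.conj_conj, Complex.conj_ofReal]
    rw [t.S1, t.W1, hs]; push_cast; rw [← hb]; simp only [map_one]; ring
  rw [e, Complex.add_re, Complex.ofReal_re]

theorem Tab.low (t : Tab m T St W) (hm : 1 ≤ m) {x g : G} {s ω a b p N β : ℝ} (hs : (2 : ℂ) ^ m = s)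
    (hW : W x * W x = ω) (hS : St x * St x = p) (ha : St g = a) (hb : W g + conj (W g) = b)
    (hN : (Nat.card (Subgroup.centralizer {x}) : ℝ) = 1 + |p| + 2 * |ω| + N)
    (hr : ∀ ε ∈ I3, ∀ χ, IsIrrCharacter G χ → Gen m T ε χ → conj (χ x) = χ x)
    (hβ : ∀ ε ∈ I3, ∀ χ, Gen m T ε χ → χ x ≠ 0 → -β * dg (2 ^ m) ε ≤ (χ g).re) :
    1 + p * a / (4 * s ^ 4) + ω * b / (s * (2 * s ^ 2 - 1)) - β * N ≤ (sig x g).re := by
  obtain ⟨R, hR, hsum⟩ := t.split hm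
  rw [t.sig_eq hsum hs hW hS ha hb, sub_eq_add_neg]
  gcongr
  have e := hsum fun χ => ((‖χ x‖ ^ 2 : ℝ) : ℂ)
  rw [← Complex.ofReal_sum, ← Complex.ofReal_sum, sum_irr_norm_sq, hN] at e
  have e1 : ‖W x‖ ^ 2 = |ω| := by rw [sq, ← norm_mul, hW, Complex.norm_real, Real.norm_eq_abs]
  have e2 : ‖St x‖ ^ 2 = |p| := by rw [sq, ← norm_mul, hS, Complex.norm_real, Real.norm_eq_abs]
  simp only [Complex.norm_conj, e1, e2, norm_one, one_pow] at e
  have e3 : N = ∑ χ ∈ R, ‖χ.1 x‖ ^ 2 := by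
    have : 1 + |p| + 2 * |ω| + N = 1 + (|p| + (|ω| + (|ω| + ∑ χ ∈ R, ‖χ.1 x‖ ^ 2))) := by exact_mod_cast e
    linarith
  rw [e3, Complex.re_sum, mul_sum, ← sum_neg_distrib]
  refine sum_le_sum fun χ hχ => ?_
  obtain ⟨ε, hε, gχ⟩ := hR χ hχ
  by_cases h0 : χ.1 x = 0
  · simp [h0]
  have d0 : (0 : ℝ) < dg (2 ^ m) ε := Int.cast_pos.2 (dg_pos (one_le_pow₀ (by norm_num)) hε)
  have e4 : χ.1 x * χ.1 x = ((‖χ.1 x‖ ^ 2 : ℝ) : ℂ) := by
    nth_rewrite 2 [← hr ε hε _ χ.2 gχ]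
    rw [Complex.mul_conj, Complex.normSq_eq_norm_sq]
  rw [e4, show χ.1 1 = ((dg (2 ^ m) ε : ℝ) : ℂ) from gχ.one.trans (by simp), Complex.div_ofReal_re,
    Complex.re_ofReal_mul, Complex.conj_re, le_div_iff₀ d0]
  nlinarith [hβ ε hε _ gχ h0, sq_nonneg ‖χ.1 x‖]

variable {F : Type*} [Field F] [Tits F] [Finite F] [SzRep F G]

theorem dgR {m : ℕ} (hm : 1 ≤ m) : ∃ s : ℝ, (2 : ℝ) ^ m = s ∧ (2 : ℂ) ^ m = s ∧ 2 ≤ s ∧ (s = 2 ∨ 4 ≤ s) ∧
    ((dg (2 ^ m) 0 : ℤ) : ℝ) = 4 * s ^ 4 + 1 ∧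
    ((dg (2 ^ m) 1 : ℤ) : ℝ) = (2 * s ^ 2 - 1) * (2 * s ^ 2 + 1 - 2 * s) ∧
    ((dg (2 ^ m) (-1) : ℤ) : ℝ) = (2 * s ^ 2 - 1) * (2 * s ^ 2 + 1 + 2 * s) := by
  refine ⟨_, rfl, by simp, le_self_pow₀ (by norm_num) (by omega), ?_, ?_⟩
  · rcases hm.eq_or_lt with rfl | h
    · simp
    · exact .inr (le_trans (by norm_num) (pow_le_pow_right₀ (by norm_num : (1 : ℝ) ≤ 2) (show 2 ≤ m from h)))
  · simp only [dg]; push_cast; refine ⟨by ring, by ring, by ring⟩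

theorem Tori.sig_four (h : Tori F m T) {x g : G} (h2 : x * x ≠ 1) (h4 : x ^ 4 = 1) (hg : g ≠ 1) :
    1 / 12 ≤ (sig x g).re := by
  obtain ⟨St, W, t⟩ := h.exists_tab
  obtain ⟨s, hs', hs, hs2, -, d0, d1, d2⟩ := dgR h.hm
  have hW : W x * W x = ((-s ^ 2 : ℝ) : ℂ) := by rw [← sq, (t.W4 x h2 h4).2, hs]; simp
  have hS : St x * St x = ((0 : ℝ) : ℂ) := by simp [t.Su.2 x h2 h4]
  have hN : (Nat.card (Subgroup.centralizer {x}) : ℝ) = 1 + |0| + 2 * |-s ^ 2| + (2 * s ^ 2 - 1) := by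
    rw [card_cent_four F h2 h4, h.hq, abs_neg, abs_zero, abs_of_nonneg (sq_nonneg _), ← hs']; push_cast; ring
  have hr : ∀ ε ∈ I3, ∀ χ, IsIrrCharacter G χ → Gen m T ε χ → conj (χ x) = χ x := fun ε _ χ _ g => by
    rw [g.uv.2 x h2 h4]; simp [map_ofNat]
  have p1 : (0 : ℝ) < 2 * s ^ 2 - 1 := by nlinarith
  have hβ : ∀ y : ℝ, -(1 / (2 * (2 * s ^ 2 - 1))) * ((2 * s ^ 2 - 1) * y) = -(y / 2) := fun y => by
    field_simp
  have hβ0 : -(1 / (2 * (2 * s ^ 2 - 1))) * (4 * s ^ 4 + 1) ≤ 1 := by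
    refine le_trans ?_ zero_le_one; rw [neg_mul, neg_nonpos]; positivity
  by_cases g2 : g * g = 1
  · refine le_trans ?_ (t.low h.hm hs hW hS (a := 0) (b := -(2 * s)) (β := 1 / (2 * (2 * s ^ 2 - 1)))
      (by simp [t.Su.1 g hg g2]) (by rw [t.W2 g hg g2, hs]; simp; ring) hN hr fun ε hε χ gχ _ => ?_)
    · have a1 : (0 : ℝ) ≤ -s ^ 2 * -(2 * s) / (s * (2 * s ^ 2 - 1)) := by
        rw [neg_mul_neg]; positivity
      have := hβ 1
      simp only [mul_zero, zero_div]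
      linarith
    · rw [gχ.uv.1 g hg g2, hs]
      simp only [mem_insert, mem_singleton] at hε
      rcases hε with rfl | rfl | rfl
      · rw [d0]; simpa using hβ0
      · rw [d1, hβ]; norm_num; nlinarith
      · rw [d2, hβ]; norm_num; nlinarith
  rcases h.cover g with g4 | ⟨δ, hδ, hy⟩
  · refine le_trans ?_ (t.low h.hm hs hW hS (a := 0) (b := 0) (β := 1 / (2 * (2 * s ^ 2 - 1)))
      (by simp [t.Su.2 g g2 g4]) (by rw [(t.W4 g g2 g4).1]; simp) hN hr fun ε hε χ gχ _ => ?_)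
    · have := hβ 1
      simp only [mul_zero, zero_div]
      linarith
    · rw [gχ.uv.2 g g2 g4]
      simp only [mem_insert, mem_singleton] at hε
      rcases hε with rfl | rfl | rfl
      · rw [d0]; simpa using hβ0
      · rw [d1, hβ]; norm_num; nlinarith
      · rw [d2, hβ]; norm_num; nlinarith
  · obtain ⟨R, hR, hsum⟩ := t.split h.hm
    rw [t.sig_eq hsum hs hW hS (a := 1 - 2 * δ ^ 2) (b := 2 * δ) (by simp [t.Sv δ hδ g hy])
      (by rw [t.Wt δ hδ g hy]; simp; ring)]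
    have e := sum_irr_mul_conj_of_not_isConj (g := x) (h := g) fun hc => h.four hδ hy (by
      obtain ⟨c, rfl⟩ := isConj_iff.1 hc
      rw [conj_pow, h4]; simp)
    rw [hsum fun χ => χ x * conj (χ g)] at e
    simp only [t.Su.2 x h2 h4, t.Wt δ hδ g hy, (t.W4 x h2 h4).1, map_intCast, map_one] at e
    have e1 : ∑ χ ∈ R, χ.1 x * χ.1 x * conj (χ.1 g) / χ.1 1 = ((-(1 - 2 * δ ^ 2) / dg (2 ^ m) δ : ℝ) : ℂ) := by
      have : ∑ χ ∈ R, χ.1 x * conj (χ.1 g) = -1 := by linear_combination e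
      push_cast
      rw [← mul_neg_one, ← this, mul_sum, sum_div]
      refine sum_congr rfl fun χ hχ => ?_
      obtain ⟨ε, hε, gχ⟩ := hR χ hχ
      by_cases he : δ = ε
      · subst he
        rw [show χ.1 1 = _ from gχ.one, show χ.1 x = _ from gχ.uv.2 x h2 h4]; ring
      · simp [show χ.1 g = 0 from gχ.van δ hδ he g hy]
    rw [e1, Complex.ofReal_re]
    simp only [mem_insert, mem_singleton] at hδ
    rcases hδ with rfl | rfl | rfl
    · rw [d0]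
      have : (-1 / 2 : ℝ) ≤ -1 / (4 * s ^ 4 + 1) := by
        rw [div_le_div_iff₀ (by norm_num) (by positivity)]; nlinarith [pow_le_pow_left₀ (by norm_num) hs2 4]
      norm_num at this ⊢; linarith
    · rw [d1]
      have a1 : (0 : ℝ) ≤ 1 / ((2 * s ^ 2 - 1) * (2 * s ^ 2 + 1 - 2 * s)) :=
        div_nonneg zero_le_one (mul_nonneg p1.le (by nlinarith))
      have a2 : (-4 / 7 : ℝ) ≤ -s ^ 2 * 2 / (s * (2 * s ^ 2 - 1)) := by
        rw [div_le_div_iff₀ (by norm_num) (by positivity)]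
        nlinarith [mul_nonneg (show 0 ≤ s by linarith) (mul_nonneg (sub_nonneg.2 hs2) (show 0 ≤ s by linarith))]
      norm_num at a1 a2 ⊢; linarith
    · rw [d2]
      have a1 : (0 : ℝ) ≤ 1 / ((2 * s ^ 2 - 1) * (2 * s ^ 2 + 1 + 2 * s)) := by positivity
      have a2 : (0 : ℝ) ≤ s ^ 2 * 2 / (s * (2 * s ^ 2 - 1)) := by positivity
      norm_num at a1 a2 ⊢; linarith

omit [Fintype G] in
theorem Tori.card_cent (h : Tori F m T) {δ : ℤ} (hδ : δ ∈ I3) {x : G} (hx : x ∈ conjSet (T δ)) :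
    Nat.card (Subgroup.centralizer {x}) = Nat.card (T δ) := by
  obtain ⟨h1, c, hc⟩ := mem_conjSet.1 hx
  rw [← (h.tor δ hδ).cent _ hc (conj_ne_one h1), show x = c * (c⁻¹ * x * c) * c⁻¹ by group, centralizer_conj, card_cj]
  congr 3; group

theorem Tori.sig_tor (h : Tori F m T) {δ : ℤ} (hδ : δ ∈ I3) {x g : G} (hx : x ∈ conjSet (T δ)) (hg : g ≠ 1) :
    1 / 12 ≤ (sig x g).re := by
  obtain ⟨St, W, t⟩ := h.exists_tab
  obtain ⟨s, hs', hs, hs2, hs4, d0, d1, d2⟩ := dgR h.hm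
  have hδ' : δ = 0 ∨ δ = 1 ∨ δ = -1 := by simpa using hδ
  have hW : W x * W x = ((δ ^ 2 : ℝ) : ℂ) := by rw [← sq, t.Wt δ hδ x hx]; simp
  have hS : St x * St x = ((1 : ℝ) : ℂ) := by
    rw [t.Sv δ hδ x hx]; rcases hδ' with rfl | rfl | rfl <;> norm_num
  have hN : (Nat.card (Subgroup.centralizer {x}) : ℝ) = 1 + |1| + 2 * |(δ : ℝ) ^ 2| + (2 * s ^ 2 - 3 + 2 * s * δ) := by
    have := congrArg (Int.cast : ℤ → ℝ) (h.card δ hδ)
    push_cast at this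
    rw [h.card_cent hδ hx, this, abs_one, abs_of_nonneg (sq_nonneg _), hs']; ring
  have hr : ∀ ε ∈ I3, ∀ χ, IsIrrCharacter G χ → Gen m T ε χ → conj (χ x) = χ x := fun ε _ χ hχ _ => by
    rw [← hχ.apply_inv, ← hχ.isClassFunction.apply_eq_of_isConj (isConj_inv F (h.odd δ hδ x hx))]
  have p1 : (7 : ℝ) ≤ 2 * s ^ 2 - 1 := by nlinarith
  have d3 : (0 : ℝ) < dg (2 ^ m) δ := Int.cast_pos.2 (dg_pos (one_le_pow₀ (by norm_num)) hδ)
  have key : ∀ a b c : ℝ, St g = a → W g + conj (W g) = b → (∀ χ, Gen m T δ χ → -c ≤ (χ g).re) →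
      1 + a / (4 * s ^ 4) + δ ^ 2 * b / (s * (2 * s ^ 2 - 1)) - c * (2 * s ^ 2 - 3 + 2 * s * δ) / dg (2 ^ m) δ ≤
        (sig x g).re := fun a b c ha hb hc => by
    refine le_trans (le_of_eq (by ring)) (t.low h.hm hs hW hS ha hb (β := c / dg (2 ^ m) δ) hN hr
      fun ε hε χ gχ h0 => ?_)
    obtain rfl : δ = ε := by_contra fun he => h0 (gχ.van δ hδ he x hx)
    rw [neg_mul, div_mul_cancel₀ _ d3.ne']; exact hc χ gχ
  have s4 : 16 ≤ s ^ 4 := le_trans (by norm_num) (pow_le_pow_left₀ (by norm_num) hs2 4)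
  have s3 : 8 ≤ s ^ 3 := le_trans (by norm_num) (pow_le_pow_left₀ (by norm_num) hs2 3)
  have b1 : -1 / 64 ≤ -1 / (4 * s ^ 4) := by rw [div_le_div_iff₀ (by norm_num) (by positivity)]; linarith
  have b1' : 0 ≤ 1 / (4 * s ^ 4) := by positivity
  have p2 : 0 < s * (2 * s ^ 2 - 1) := by positivity
  have b2 : -2 / 7 ≤ -(2 * s) / (s * (2 * s ^ 2 - 1)) := by rw [div_le_div_iff₀ (by norm_num) p2]; nlinarith
  have b3 : -1 / 7 ≤ -2 / (s * (2 * s ^ 2 - 1)) := by rw [div_le_div_iff₀ (by norm_num) p2]; nlinarith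
  have b3' : 0 ≤ 2 / (s * (2 * s ^ 2 - 1)) := by positivity
  have c0 : (2 * s ^ 2 - 3) / (4 * s ^ 4 + 1) ≤ 1 / 10 := by
    rw [div_le_div_iff₀ (by positivity) (by norm_num)]; nlinarith
  have q1 : 0 < (2 * s ^ 2 - 1) * (2 * s ^ 2 + 1 - 2 * s) := mul_pos (by linarith) (by nlinarith)
  have q2 : 0 < (2 * s ^ 2 - 1) * (2 * s ^ 2 + 1 + 2 * s) := by positivity
  have c1 : (2 * s ^ 2 - 3 + 2 * s) / ((2 * s ^ 2 - 1) * (2 * s ^ 2 + 1 - 2 * s)) ≤ 1 / 2 := by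
    rw [div_le_div_iff₀ q1 (by norm_num)]; nlinarith
  have c2 : (2 * s ^ 2 - 3 - 2 * s) / ((2 * s ^ 2 - 1) * (2 * s ^ 2 + 1 + 2 * s)) ≤ 1 / 10 := by
    rw [div_le_div_iff₀ q2 (by norm_num)]; nlinarith
  have c3 : (2 * s + 1) * (2 * s ^ 2 - 3 - 2 * s) / ((2 * s ^ 2 - 1) * (2 * s ^ 2 + 1 + 2 * s)) ≤ 1 / 2 := by
    rw [div_le_div_iff₀ q2 (by norm_num)]; nlinarith
  have c4 : 4 * (2 * s ^ 2 - 3 + 2 * s) / ((2 * s ^ 2 - 1) * (2 * s ^ 2 + 1 - 2 * s)) ≤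
      9 / 10 + 2 / (s * (2 * s ^ 2 - 1)) := by
    rcases hs4 with rfl | hs4
    · norm_num
    · refine le_trans ?_ (le_add_of_nonneg_right b3')
      rw [div_le_div_iff₀ q1 (by norm_num)]
      nlinarith [mul_nonneg (sub_nonneg.2 hs4) (sq_nonneg s), mul_nonneg (sub_nonneg.2 hs4) (show 0 ≤ s ^ 3 by linarith)]
  by_cases g2 : g * g = 1
  · refine le_trans ?_ (key 0 (-(2 * s)) (if δ = -1 then 2 * s + 1 else 0) (by simp [t.Su.1 g hg g2])
      (by rw [t.W2 g hg g2, hs]; simp; ring) fun χ gχ => ?_)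
    · rcases hδ' with rfl | rfl | rfl
      · norm_num
      · norm_num at b2 ⊢; linarith
      · rw [d2]; norm_num [← sub_eq_add_neg] at b2 c3 ⊢; linarith
    · rw [gχ.uv.1 g hg g2, hs]
      rcases hδ' with rfl | rfl | rfl <;> norm_num <;> linarith
  rcases h.cover g with g4 | ⟨ε, hε, hy⟩
  · refine le_trans ?_ (key 0 0 1 (by simp [t.Su.2 g g2 g4]) (by rw [(t.W4 g g2 g4).1]; simp) fun χ gχ => ?_)
    · rcases hδ' with rfl | rfl | rfl
      · rw [d0]; norm_num at c0 ⊢; linarith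
      · rw [d1]; norm_num at c1 ⊢; linarith
      · rw [d2]; norm_num [← sub_eq_add_neg] at c2 ⊢; linarith
    · rw [gχ.uv.2 g g2 g4]
      rcases hδ' with rfl | rfl | rfl <;> norm_num
  · have hε' : ε = 0 ∨ ε = 1 ∨ ε = -1 := by simpa using hε
    refine le_trans ?_ (key (1 - 2 * ε ^ 2) (2 * ε) (if ε = δ then 2 + 2 * δ ^ 2 else 0) (by simp [t.Sv ε hε g hy])
      (by rw [t.Wt ε hε g hy]; simp; ring) fun χ gχ => ?_)
    · clear key
      simp only [div_eq_mul_inv] at b1 b1' b3 b3' c0 c2 c4 ⊢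
      rw [← d0] at c0
      rw [← d1] at c4
      rw [← d2] at c2
      generalize (4 * s ^ 4)⁻¹ = u at *
      generalize (s * (2 * s ^ 2 - 1))⁻¹ = v at *
      rcases hδ' with rfl | rfl | rfl <;> generalize ((dg (2 ^ m) _ : ℤ) : ℝ)⁻¹ = w at * <;>
        rcases hε' with rfl | rfl | rfl <;> norm_num <;> linarith
    · split_ifs with e
      · subst e
        have := gχ.bd g hy
        have := (abs_le.1 (Complex.abs_re_le_norm (χ g))).1
        rcases hε' with rfl | rfl | rfl <;> norm_num at * <;> linarith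
      · simp [gχ.van ε hε e g hy]

variable (F) in
include F in
theorem sig_ge {x g : G} (h2 : x * x ≠ 1) (hg : g ≠ 1) : 1 / 12 ≤ (sig x g).re := by
  obtain ⟨m, hm, hq⟩ := exists_card_eq_odd F
  obtain ⟨T, h, -⟩ := exists_tori F G hm hq
  rcases h.cover x with h4 | ⟨δ, hδ, hx⟩
  exacts [h.sig_four h2 h4 hg, h.sig_tor hδ hx hg]

variable (F) in
include F in
theorem card_pairs_ge {x g : G} (h2 : x * x ≠ 1) (hg : g ≠ 1) :
    Nat.card G ≤ 12 * Nat.card {p : G × G // p.1 * x * p.1⁻¹ * (p.2 * x * p.2⁻¹) = g} := by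
  have e := congrArg Complex.re (card_mul_conj_pairs x x g)
  have := sig_ge F h2 hg
  rw [Complex.natCast_re, ← Complex.ofReal_natCast, Complex.re_ofReal_mul] at e
  have h0 : (0 : ℝ) ≤ Nat.card G := Nat.cast_nonneg _
  have : (Nat.card G : ℝ) ≤ 12 * Nat.card {p : G × G // p.1 * x * p.1⁻¹ * (p.2 * x * p.2⁻¹) = g} := by
    rw [e]; unfold sig at this; nlinarith
  exact_mod_cast this

end Cfsg.Agent.SzCh
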