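import Cfsg.Agent.SzCh.Tor
import Cfsg.Agent.S2241

/-! Characters of `Sz(q)`, part 3 (helper2): the character table (`Tab`, `Tori.exists_tab`); `Gen` describes the
members of the three generic families; `card_cent_four`. -/

set_option autoImplicit false

namespace Cfsg.Agent.SzCh

open Cfsg Cfsg.Agent.Char Cfsg.Agent.CharDeep Cfsg.Agent.Sz Finset
open scoped ComplexConjugate

/-- The degree of the generic characters attached to the torus of sign `ε`. -/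
def dg (s ε : ℤ) : ℤ := (1 - ε ^ 2) * (4 * s ^ 4 + 1) + ε ^ 2 * (2 * s ^ 2 - 1) * (2 * s ^ 2 + 1 - 2 * s * ε)

theorem dg_pos {s ε : ℤ} (hs : 1 ≤ s) (hε : ε ∈ I3) : 0 < dg s ε := by
  simp only [mem_insert, mem_singleton] at hε
  rcases hε with rfl | rfl | rfl <;> simp only [dg] <;> norm_num
  · positivity
  all_goals apply mul_pos <;> nlinarith

section
variable {G : Type*} [Group G]

/-- The generic characters. -/
structure Gen (m : ℕ) (T : ℤ → Subgroup G) (ε : ℤ) (χ : G → ℂ) : Prop where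
  one : χ 1 = dg (2 ^ m) ε
  uv : UV χ ((1 - 2 * ε ^ 2) * (1 - 2 * 2 ^ m * ε)) (1 - 2 * ε ^ 2)
  van : ∀ δ ∈ I3, δ ≠ ε → ∀ y ∈ conjSet (T δ), χ y = 0
  bd : ∀ y ∈ conjSet (T ε), ‖χ y‖ ≤ (2 + 2 * ε.natAbs : ℕ)

/-- The character table of a Suzuki group. -/
structure Tab (m : ℕ) (T : ℤ → Subgroup G) (St W : G → ℂ) : Prop where
  irrS : IsIrrCharacter G St
  irrW : IsIrrCharacter G W
  S1 : St 1 = 4 * (2 ^ m) ^ 4
  Su : UV St 0 0
  Sv : ∀ ε ∈ I3, ∀ y ∈ conjSet (T ε), St y = 1 - 2 * ε ^ 2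
  W1 : W 1 = 2 ^ m * (2 * (2 ^ m) ^ 2 - 1)
  W2 : ∀ y, y ≠ 1 → y * y = 1 → W y = -2 ^ m
  W4 : ∀ y, y * y ≠ 1 → y ^ 4 = 1 → conj (W y) = -W y ∧ W y ^ 2 = -(2 ^ m) ^ 2
  Wt : ∀ ε ∈ I3, ∀ y ∈ conjSet (T ε), W y = ε
  ne : W ≠ fun y => conj (W y)
  all : ∀ χ, IsIrrCharacter G χ → (χ = fun _ => 1) ∨ χ = St ∨ χ = W ∨ (χ = fun y => conj (W y)) ∨ ∃ ε ∈ I3, Gen m T ε χ
  ex : ∀ ε ∈ I3, ∃ χ, IsIrrCharacter G χ ∧ Gen m T ε χ

/-- The unipotently supported part of the Deligne-Lusztig characters. -/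
noncomputable def Ph (s ε : ℂ) : G → ℂ :=
  un ((4 * s ^ 4 + 1) * (2 * s ^ 2 - 1) * (2 * s ^ 2 + 1 - 2 * s * ε)) (2 * s * ε - 1) (-1)

/-- The Deligne-Lusztig characters. -/
noncomputable def RR [Fintype G] (m : ℕ) (T : ℤ → Subgroup G) (ε : ℤ) (χ : T ε → ℂ) : G → ℂ :=
  indFun (T ε) χ - Ph (2 ^ m) ε

theorem odd_four {y : G} (h1 : y ≠ 1) (ho : Odd (orderOf y)) : y ^ 4 ≠ 1 := fun h => h1 <| by
  have h2 : orderOf y ∣ 2 ^ 2 := orderOf_dvd_of_pow_eq_one h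
  exact orderOf_eq_one_iff.1 (Nat.eq_one_of_self_dvd_of_coprime' h2 ho)
where Nat.eq_one_of_self_dvd_of_coprime' {n : ℕ} (h : n ∣ 2 ^ 2) (ho : Odd n) : n = 1 :=
  Nat.Coprime.eq_one_of_dvd (Nat.Coprime.pow_right _ ho.coprime_two_right) h

end

variable {F : Type*} [Field F] [Tits F] [Finite F] {G : Type*} [Group G] [SzRep F G]

variable (F) in
theorem card_cent_four {y : G} (h2 : y * y ≠ 1) (h4 : y ^ 4 = 1) :
    Nat.card (Subgroup.centralizer {y}) = 2 * Nat.card F := by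
  obtain ⟨x, a, b, hx⟩ := exists_conj_U (F := F) h4
  have e : y = x * S G a b * x⁻¹ := by rw [← hx]; group
  have ha : a ≠ 0 := by
    rintro rfl
    exact h2 (by rw [e, conj_mul, S_zero_mul_self]; simp)
  rw [e, centralizer_conj, card_cj, ← Nat.card_eq_two_iff.2 (⟨⟨0, by simp⟩, ⟨a, by simp⟩, by simpa using ha.symm, by
    ext ⟨c, hc⟩; simpa using hc⟩ : ∃ u v : {c : F // c = 0 ∨ c = a}, u ≠ v ∧ ({u, v} : Set _) = Set.univ),
    ← Nat.card_prod]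
  symm
  refine Nat.card_congr (Equiv.ofBijective (fun p => ⟨S G p.1.1 p.2, Subgroup.mem_centralizer_singleton_iff.2
    (S_comm_iff'.2 (by have := p.1.2; tauto))⟩) ⟨fun p p' e => ?_, fun ⟨c, hc⟩ => ?_⟩)
  · have e' : S G p.1.1 p.2 = S G p'.1.1 p'.2 := congrArg Subtype.val e
    obtain ⟨e1, e2⟩ := S_inj.1 e'
    exact Prod.ext (Subtype.ext e1) e2
  · have hc' := Subgroup.mem_centralizer_singleton_iff.1 hc
    obtain ⟨u, v, rfl⟩ := mem_U_of_commute (S_mem_U a b) (fun e => ha (S_eq_one.1 e).1) hc'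
    exact ⟨(⟨u, by have := S_comm_iff'.1 hc'; tauto⟩, v), rfl⟩

variable (F) in
include F in
theorem not_real_four {y : G} (h2 : y * y ≠ 1) (h4 : y ^ 4 = 1) : ¬ IsConj y y⁻¹ := by
  obtain ⟨x, hx⟩ := exists_conj_U (F := F) h4
  intro h
  have h1 : y ≠ 1 := by rintro rfl; simp at h2
  have := (S2241.aux hx (conj_ne_one h1)).1 ((isConj_iff.2 ⟨x, by group⟩ : IsConj (x⁻¹ * y * x) y).trans
    (h.trans (isConj_iff.2 ⟨x⁻¹, by group⟩)))
  rw [Sz.orderOf_conj'] at this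
  exact h2 (by rw [← sq, ← this, pow_orderOf_eq_one])

namespace Tori

variable [Fintype G] {m : ℕ} {T : ℤ → Subgroup G} (h : Tori F m T)
include h

omit [Fintype G] in
theorem qC : (Nat.card F : ℂ) = 2 * (2 ^ m) ^ 2 := by rw [h.hq]; push_cast; ring

omit [Fintype G] in
theorem cardC {ε : ℤ} (hε : ε ∈ I3) :
    (Nat.card (T ε) : ℂ) = 2 * (2 ^ m) ^ 2 - 1 + 2 * ε ^ 2 + 2 * 2 ^ m * ε := by
  have := congrArg (Int.cast : ℤ → ℂ) (h.card ε hε)
  push_cast at this; exact this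

omit [Fintype G] in
theorem cardG : (Nat.card G : ℂ) = 4 * (2 ^ m) ^ 4 * (4 * (2 ^ m) ^ 4 + 1) * (2 * (2 ^ m) ^ 2 - 1) := by
  rw [card_G' F, h.qC]; ring

theorem nz : (2 : ℂ) ^ m ≠ 0 ∧ (2 * (2 ^ m) ^ 2 - 1 : ℂ) ≠ 0 ∧ (4 * (2 ^ m) ^ 4 + 1 : ℂ) ≠ 0 ∧
    (2 * (2 ^ m) ^ 2 + 2 * 2 ^ m + 1 : ℂ) ≠ 0 ∧ (2 * (2 ^ m) ^ 2 - 2 * 2 ^ m + 1 : ℂ) ≠ 0 := by
  have h0 := card_ne_zero' G
  have h1 := card_ne_zero' (T 1)
  have h2 := card_ne_zero' (T (-1))
  rw [h.cardG] at h0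
  rw [h.cardC (by simp)] at h1 h2
  refine ⟨by simp, right_ne_zero_of_mul h0, right_ne_zero_of_mul (left_ne_zero_of_mul h0), ?_, ?_⟩
  · convert h1 using 1; push_cast; ring
  · convert h2 using 1; push_cast; ring

theorem gen_Ph (ε : ℤ) : IsGeneralizedCharacter G (Ph (2 ^ m) ε) := by
  have := (gen_N F G).add ((gen_M G h.hq).intCast_smul (2 ^ m - ε))
  rw [un_lin, h.qC] at this
  convert this using 1
  unfold Ph; congr 1 <;> push_cast <;> ring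

theorem gen_R {ε : ℤ} {χ : T ε → ℂ} (hχ : IsCharacter (T ε) χ) : IsGeneralizedCharacter G (RR m T ε χ) :=
  (isCharacter_indFun _ hχ).isGeneralizedCharacter.sub (h.gen_Ph ε)

omit h [Finite F] in
theorem class_R {ε : ℤ} (χ : T ε → ℂ) : IsClassFunction G (RR m T ε χ) :=
  (indFun_isClassFunction _ _).sub (un_class _ _ _)

theorem R_one {ε : ℤ} (hε : ε ∈ I3) {χ : T ε → ℂ} (h1 : χ 1 = 1) :
    RR m T ε χ 1 = (1 - 2 * ε ^ 2) * dg (2 ^ m) ε := by
  have e := congrArg (Nat.cast : ℕ → ℂ) (T ε).index_mul_card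
  have h0 := card_ne_zero' (T ε)
  rw [Nat.cast_mul, h.cardG] at e
  simp only [RR, Ph, Pi.sub_apply, indFun_one, h1, un_one, dg, mul_one]
  apply mul_right_cancel₀ h0
  rw [sub_mul, e, h.cardC hε]
  simp only [mem_insert, mem_singleton] at hε
  rcases hε with rfl | rfl | rfl <;> push_cast <;> ring

omit [Fintype G] in
theorem four {ε : ℤ} (hε : ε ∈ I3) {y : G} (hy : y ∈ conjSet (T ε)) : y ^ 4 ≠ 1 :=
  odd_four (mem_conjSet.1 hy).1 (h.odd ε hε y hy)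

theorem R_uv {ε : ℤ} (hε : ε ∈ I3) (χ : T ε → ℂ) : UV (RR m T ε χ) (1 - 2 * 2 ^ m * ε) 1 := by
  refine ⟨fun y h1 h2 => ?_, fun y h2 h4 => ?_⟩
  · simp only [RR, Ph, Pi.sub_apply, un_two _ _ _ h1 h2, ind_zero _ _ h1 fun hy => h.four hε hy (sq_four h2)]; ring
  · have h1 : y ≠ 1 := by rintro rfl; simp at h2
    simp only [RR, Ph, Pi.sub_apply, un_four _ _ _ h2 h4, ind_zero _ _ h1 fun hy => h.four hε hy h4]; ring

theorem R_tor {ε δ : ℤ} (hδ : δ ∈ I3) (χ : T ε → ℂ) {y : G} (hy : y ∈ conjSet (T δ)) :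
    RR m T ε χ y = indFun (T ε) χ y := by
  simp only [RR, Ph, Pi.sub_apply, un_zero _ _ _ (h.four hδ hy), sub_zero]

theorem R_van {ε δ : ℤ} (hε : ε ∈ I3) (hδ : δ ∈ I3) (hne : δ ≠ ε) (χ : T ε → ℂ) {y : G}
    (hy : y ∈ conjSet (T δ)) : RR m T ε χ y = 0 := by
  rw [h.R_tor hδ χ hy, ind_zero _ _ (mem_conjSet.1 hy).1 fun h' => hne (h.disj δ hδ ε hε y hy h')]

theorem R1_tor {ε δ : ℤ} (hε : ε ∈ I3) (hδ : δ ∈ I3) {y : G} (hy : y ∈ conjSet (T δ)) :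
    RR m T ε (fun _ => 1) y = if δ = ε then 2 + 2 * (ε : ℂ) ^ 2 else 0 := by
  split_ifs with e
  · subst e
    rw [h.R_tor hδ _ hy, (h.tor δ hδ).ind_one hy]
    simp only [mem_insert, mem_singleton] at hδ
    rcases hδ with rfl | rfl | rfl <;> norm_num
  · exact h.R_van hε hδ e _ hy

theorem inner_Ph (ε : ℂ) {f : G → ℂ} {a b c : ℤ} (h1 : f 1 = a) (hf : UV f b c) :
    classInner (Ph (2 ^ m) ε) f =
      ((2 * (2 ^ m) ^ 2 + 1 - 2 * 2 ^ m * ε) * a + (2 * 2 ^ m * ε - 1) * b - 2 * (2 ^ m) ^ 2 * c) / (4 * (2 ^ m) ^ 4) := by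
  obtain ⟨n1, n2, n3, -⟩ := h.nz
  rw [Ph, inner_un F _ _ _ hf, h1, h.cardG, h.qC]
  simp only [map_intCast]
  have n4 : (4 * (2 ^ m) ^ 4 : ℂ) ≠ 0 := by simp
  rw [inv_mul_eq_div, div_eq_div_iff (mul_ne_zero (mul_ne_zero n4 n3) n2) n4]; ring

theorem irr_R {ε : ℤ} (hε : ε ∈ I3) {χ : T ε →* ℂˣ} (h1 : χ ≠ 1) :
    IsIrrCharacter G (((1 - 2 * ε ^ 2 : ℤ) : ℂ) • RR m T ε fun t => χ t) ∧
      Gen m T ε (((1 - 2 * ε ^ 2 : ℤ) : ℂ) • RR m T ε fun t => χ t) := by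
  classical
  obtain ⟨n1, n2, n3, n4, n5⟩ := h.nz
  have r1 := h.R_one hε (χ := fun t => χ t) (by simp)
  have ru := h.R_uv hε fun t => χ t
  have hs : ((1 - 2 * ε ^ 2 : ℤ) : ℂ) * (1 - 2 * ε ^ 2) = 1 := by
    simp only [mem_insert, mem_singleton] at hε
    rcases hε with rfl | rfl | rfl <;> norm_num
  have e1 : (((1 - 2 * ε ^ 2 : ℤ) : ℂ) • RR m T ε fun t => χ t) 1 = dg (2 ^ m) ε := by
    rw [Pi.smul_apply, r1, smul_eq_mul, ← mul_assoc, hs, one_mul]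
  refine ⟨((h.gen_R (isCharacter_hom χ)).intCast_smul _).isIrrCharacter_of_pos ?_ ?_, e1,
    ⟨fun y a b => ?_, fun y a b => ?_⟩, fun δ hδ hne y hy => ?_, fun y hy => ?_⟩
  · rw [classInner_smul_left, classInner_smul_right, map_intCast, ← mul_assoc]
    nth_rewrite 1 [RR]
    rw [classInner_sub_left, classInner_indFun_left _ _ (class_R _), (h.tor ε hε).inner_self h1 fun t ht =>
      h.R_tor hε _ (mem_conjSet_of_mem t.2 (by simpa using ht)),
      h.inner_Ph ε (a := (1 - 2 * ε ^ 2) * dg (2 ^ m) ε) (b := 1 - 2 * 2 ^ m * ε) (c := 1) (by rw [r1]; push_cast; rfl)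
        (by push_cast; exact ru), r1, h.cardC hε]
    have n6 : (2 * (2 ^ m) ^ 2 - 1 + 2 * (ε : ℂ) ^ 2 + 2 * 2 ^ m * ε) ≠ 0 := h.cardC hε ▸ card_ne_zero' (T ε)
    have n7 : (4 * (2 ^ m) ^ 4 : ℂ) ≠ 0 := by simp
    rw [one_add_div n6, div_sub_div _ _ n6 n7, ← mul_div_assoc, div_eq_iff (mul_ne_zero n6 n7)]
    simp only [map_mul, map_sub, map_one, map_pow, map_intCast, map_ofNat, dg]
    simp only [mem_insert, mem_singleton] at hε
    rcases hε with rfl | rfl | rfl <;> push_cast <;> norm_num <;> ring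
  · rw [e1, Complex.intCast_re]
    exact Int.cast_nonneg (dg_pos (one_le_pow₀ (by norm_num)) hε).le
  · rw [Pi.smul_apply, ru.1 y a b]; simp
  · rw [Pi.smul_apply, ru.2 y a b]; simp
  · rw [Pi.smul_apply, h.R_van hε hδ hne _ hy, smul_zero]
  · rw [Pi.smul_apply, h.R_tor hε _ hy, norm_smul]
    have : ‖((1 - 2 * ε ^ 2 : ℤ) : ℂ)‖ = 1 := by
      simp only [mem_insert, mem_singleton] at hε
      rcases hε with rfl | rfl | rfl <;> norm_num
    rw [this, one_mul]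
    exact (h.tor ε hε).norm_ind χ hy

theorem one_R {ε : ℤ} (hε : ε ∈ I3) {f : G → ℂ} (hf : IsClassFunction G f) {a b c d : ℤ} (h1 : f 1 = a)
    (hu : UV f b c) (hd : ∀ y ∈ conjSet (T ε), f y = d) {k : ℂ}
    (hk : (a + (2 * (2 ^ m) ^ 2 - 2 + 2 * ε ^ 2 + 2 * 2 ^ m * ε) * d) * (4 * (2 ^ m) ^ 4) -
      (2 * (2 ^ m) ^ 2 - 1 + 2 * ε ^ 2 + 2 * 2 ^ m * ε) *
      ((2 * (2 ^ m) ^ 2 + 1 - 2 * 2 ^ m * ε) * a + (2 * 2 ^ m * ε - 1) * b - 2 * (2 ^ m) ^ 2 * c) =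
      k * ((2 * (2 ^ m) ^ 2 - 1 + 2 * ε ^ 2 + 2 * 2 ^ m * ε) * (4 * (2 ^ m) ^ 4))) :
    classInner (RR m T ε fun _ => 1) f = k := by
  have n6 : (2 * (2 ^ m) ^ 2 - 1 + 2 * (ε : ℂ) ^ 2 + 2 * 2 ^ m * ε) ≠ 0 := h.cardC hε ▸ card_ne_zero' (T ε)
  have n7 : (4 * (2 ^ m) ^ 4 : ℂ) ≠ 0 := by simp
  rw [RR, classInner_sub_left, inner_one _ hf hd, h.inner_Ph _ h1 hu, h.cardC hε, div_sub_div _ _ n6 n7,
    div_eq_iff (mul_ne_zero n6 n7), ← hk, h1]
  simp only [map_intCast]; ring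

theorem exists_tab : ∃ St W : G → ℂ, Tab m T St W := by
  classical
  obtain ⟨n1, n2, n3, n4, n5⟩ := h.nz
  have i0 : (0 : ℤ) ∈ I3 := by simp
  have i1 : (1 : ℤ) ∈ I3 := by simp
  have c1 : IsClassFunction G fun _ => (1 : ℂ) := isClassFunction_const 1
  have u1 : UV (fun _ : G => (1 : ℂ)) ((1 : ℤ) : ℂ) ((1 : ℤ) : ℂ) := ⟨fun _ _ _ => by simp, fun _ _ _ => by simp⟩
  have g0 := h.gen_R (ε := 0) isCharacter_one
  have g1 := h.gen_R (ε := 1) isCharacter_one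
  have p0 : classInner (RR m T 0 fun _ => 1) (fun _ => 1) = 1 :=
    h.one_R i0 c1 (a := 1) (d := 1) (by simp) u1 (by simp) (by push_cast; ring)
  have p1 : classInner (RR m T 1 fun _ => 1) (fun _ => 1) = 1 :=
    h.one_R i1 c1 (a := 1) (d := 1) (by simp) u1 (by simp) (by push_cast; ring)
  have p2 : classInner (fun _ : G => (1 : ℂ)) (fun _ => 1) = 1 := isIrrCharacter_one.classInner_self
  -- the Steinberg character
  obtain ⟨St, hSt⟩ : ∃ St : G → ℂ, St = (RR m T 0 fun _ => 1) - fun _ => 1 := ⟨_, rfl⟩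
  have gS : IsGeneralizedCharacter G St := hSt ▸ g0.sub isGeneralizedCharacter_one
  have S1 : St 1 = 4 * (2 ^ m) ^ 4 := by rw [hSt, Pi.sub_apply, h.R_one i0 rfl]; simp [dg]
  have Su : UV St 0 0 := ⟨fun y a b => by rw [hSt, Pi.sub_apply, (h.R_uv i0 _).1 y a b]; simp,
    fun y a b => by rw [hSt, Pi.sub_apply, (h.R_uv i0 _).2 y a b]; simp⟩
  have Sv : ∀ ε ∈ I3, ∀ y ∈ conjSet (T ε), St y = 1 - 2 * ε ^ 2 := fun ε hε y hy => by
    rw [hSt, Pi.sub_apply, h.R1_tor i0 hε hy]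
    simp only [mem_insert, mem_singleton] at hε
    rcases hε with rfl | rfl | rfl <;> norm_num
  have irrS : IsIrrCharacter G St := by
    refine gS.isIrrCharacter_of_pos ?_ (by rw [S1]; norm_cast; positivity)
    have q1 : classInner (fun _ => 1) St = 0 := by
      rw [classInner_eq_zero_comm, hSt, classInner_sub_left, p0, p2, sub_self]
    nth_rewrite 1 [hSt]
    rw [classInner_sub_left, q1, sub_zero]
    exact h.one_R i0 gS.isClassFunction (a := 4 * (2 ^ m) ^ 4) (b := 0) (c := 0) (d := 1) (by simp [S1])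
      (by simpa using Su) (by simpa using Sv 0 i0) (by push_cast; ring)
  -- the sum of the two non-real characters
  obtain ⟨Sg, hSg⟩ : ∃ Sg : G → ℂ, Sg = (RR m T 1 fun _ => 1) + (RR m T 0 fun _ => 1) - (2 : ℂ) • fun _ => 1 :=
    ⟨_, rfl⟩
  have gg : IsGeneralizedCharacter G Sg := hSg ▸ (g1.add g0).sub (by
    simpa using isGeneralizedCharacter_one.intCast_smul 2)
  have G1 : Sg 1 = 2 * (2 ^ m * (2 * (2 ^ m) ^ 2 - 1)) := by
    rw [hSg, Pi.sub_apply, Pi.add_apply, h.R_one i0 rfl, h.R_one i1 rfl]; simp [dg]; ring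
  have Gu : UV Sg (-(2 * 2 ^ m)) 0 :=
    ⟨fun y a b => by rw [hSg, Pi.sub_apply, Pi.add_apply, (h.R_uv i0 _).1 y a b, (h.R_uv i1 _).1 y a b]; simp; ring,
    fun y a b => by rw [hSg, Pi.sub_apply, Pi.add_apply, (h.R_uv i0 _).2 y a b, (h.R_uv i1 _).2 y a b]; simp; ring⟩
  have Gv : ∀ ε ∈ I3, ∀ y ∈ conjSet (T ε), Sg y = 2 * ε := fun ε hε y hy => by
    rw [hSg, Pi.sub_apply, Pi.add_apply, h.R1_tor i0 hε hy, h.R1_tor i1 hε hy]
    simp only [mem_insert, mem_singleton] at hε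
    rcases hε with rfl | rfl | rfl <;> norm_num
  have nG : classInner Sg Sg = 2 := by
    have q1 : classInner (fun _ => 1) Sg = 0 := by
      rw [classInner_eq_zero_comm, hSg, classInner_sub_left, classInner_add_left, classInner_smul_left, p0, p1, p2]
      ring
    nth_rewrite 1 [hSg]
    rw [classInner_sub_left, classInner_add_left, classInner_smul_left, q1,
      h.one_R i0 gg.isClassFunction (a := 2 * (2 ^ m * (2 * (2 ^ m) ^ 2 - 1))) (b := -(2 * 2 ^ m)) (c := 0) (d := 0)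
        (k := 0) (by simp [G1]) (by simpa using Gu) (by simpa using Gv 0 i0) (by push_cast; ring),
      h.one_R i1 gg.isClassFunction (a := 2 * (2 ^ m * (2 * (2 ^ m) ^ 2 - 1))) (b := -(2 * 2 ^ m)) (c := 0) (d := 2)
        (k := 2) (by simp [G1]) (by simpa using Gu) (by simpa using Gv 1 i1) (by push_cast; ring)]
    ring
  -- the regular character
  let reg : G → ℂ := fun y => if y = 1 then (Nat.card G : ℂ) else 0
  let o : ∀ ε, IrrCharacter (T ε) := fun ε => irrOne (T ε)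
  have hs : ∀ ε ∈ I3, ∑ χ ∈ univ.erase (o ε), RR m T ε χ =
      reg - (Nat.card (T ε) : ℂ) • Ph (2 ^ m) ε - RR m T ε fun _ => 1 := fun ε hε => by
    have hc := fun a ha b hb => (h.tor ε hε).comm (a := a) (b := b) ha hb
    rw [eq_sub_iff_add_eq', ← coe_irrOne, add_sum_erase _ (fun χ : IrrCharacter (T ε) => RR m T ε χ) (mem_univ _)]
    simp only [RR, sum_sub_distrib, sum_ind hc, sum_const, card_univ, ← Nat.card_eq_fintype_card,
      card_irr_of_comm fun a b : T ε => Subtype.ext (hc _ a.2 _ b.2), reg, Nat.cast_smul_eq_nsmul]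
  have id : reg = ∑ ε ∈ I3, ((1 - 2 * ε ^ 2) * dg (2 ^ m) ε / (2 + 2 * ε ^ 2) : ℂ) •
      ∑ χ ∈ univ.erase (o ε), RR m T ε χ + (fun _ => 1) + (4 * (2 ^ m) ^ 4 : ℂ) • St +
        (2 ^ m * (2 * (2 ^ m) ^ 2 - 1) : ℂ) • Sg := by
    rw [sum_congr rfl fun ε hε => by rw [hs ε hε]]
    funext y
    simp only [Pi.add_apply, Finset.sum_apply, Pi.smul_apply, Pi.sub_apply, smul_eq_mul]
    by_cases h1 : y = 1
    · rw [h1, sum_congr rfl fun ε hε => by rw [h.R_one hε rfl, h.cardC hε], S1, G1]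
      simp [reg, h.cardG, Ph, un_one, dg]; ring
    have r0 : reg y = 0 := if_neg h1
    by_cases h2 : y * y = 1
    · rw [sum_congr rfl fun ε hε => by rw [(h.R_uv hε _).1 y h1 h2, h.cardC hε], Su.1 y h1 h2, Gu.1 y h1 h2]
      simp [r0, Ph, un_two _ _ _ h1 h2, dg]; ring
    rcases h.cover y with h4 | ⟨δ, hδ, hy⟩
    · rw [sum_congr rfl fun ε hε => by rw [(h.R_uv hε _).2 y h2 h4, h.cardC hε], Su.2 y h2 h4, Gu.2 y h2 h4]
      simp [r0, Ph, un_four _ _ _ h2 h4, dg]; ring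
    · rw [sum_congr rfl fun ε hε => by rw [h.R1_tor hε hδ hy], Sv δ hδ y hy, Gv δ hδ y hy]
      simp only [r0, Ph, un_zero _ _ _ (h.four hδ hy)]
      simp only [mem_insert, mem_singleton] at hδ
      rcases hδ with rfl | rfl | rfl <;> simp [dg] <;> ring
  obtain ⟨c, hc, hc'⟩ := gg.exists_int_coeff
  have key : ∀ ψ : IrrCharacter G, ((ψ : G → ℂ) = fun _ => 1) ∨ ψ = St ∨ (∃ ε ∈ I3, Gen m T ε ψ) ∨
      (ψ : G → ℂ) 1 = 2 ^ m * (2 * (2 ^ m) ^ 2 - 1) * c ψ := by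
    intro ψ
    by_contra! hn
    obtain ⟨a1, a2, a3, a4⟩ := hn
    have e1 : classInner reg ψ = (ψ : G → ℂ) 1 := by
      rw [classInner_def, sum_eq_single 1 (fun y _ hy => by simp [reg, hy]) (by simp), ψ.2.isCharacter.conj_apply_one]
      have := card_ne_zero' G
      simp only [reg, if_true]; field_simp
    refine a4 ?_
    rw [← e1, id, classInner_add_left, classInner_add_left, classInner_add_left, classInner_smul_left,
      classInner_smul_left, isIrrCharacter_one.classInner_eq_zero_of_ne ψ.2 a1.symm,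
      irrS.classInner_eq_zero_of_ne ψ.2 a2.symm, hc, classInner_sum_left, sum_eq_zero fun ε hε => ?_]
    · ring
    rw [classInner_smul_left, classInner_sum_left, sum_eq_zero fun χ hχ => ?_, mul_zero]
    obtain ⟨lam, hl⟩ := χ.2.exists_hom_of_comm fun a b : T ε => Subtype.ext ((h.tor ε hε).comm a.2 b.2)
    have hl1 : lam ≠ 1 := by
      rintro rfl
      exact ne_of_mem_erase hχ (Subtype.ext hl)
    obtain ⟨b1, b2⟩ := h.irr_R hε hl1
    have := b1.classInner_eq_zero_of_ne ψ.2 fun e => a3 ε hε (e ▸ b2)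
    rw [classInner_smul_left] at this
    rw [show (χ : T ε → ℂ) = _ from hl]
    refine (mul_eq_zero.1 this).resolve_left (Int.cast_ne_zero.2 (by omega))
  have r2 : S G (1 : F) 0 * S G (1 : F) 0 ≠ 1 := mt S_mul_self_eq_one.1 one_ne_zero
  have r4 : S G (1 : F) 0 ^ 4 = 1 := S_pow_four _ _
  have r2' : (S G (1 : F) 0)⁻¹ * (S G (1 : F) 0)⁻¹ ≠ 1 := by rwa [← mul_inv_rev, inv_ne_one]
  have r4' : (S G (1 : F) 0)⁻¹ ^ 4 = 1 := by rw [inv_pow, r4, inv_one]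
  have key' : ∀ ψ : IrrCharacter G, (ψ : G → ℂ) (S G (1 : F) 0) ≠ (ψ : G → ℂ) (S G (1 : F) 0)⁻¹ →
      (ψ : G → ℂ) 1 = 2 ^ m * (2 * (2 ^ m) ^ 2 - 1) * c ψ := by
    intro ψ hψ
    rcases key ψ with e | e | ⟨ε, -, e⟩ | e
    · exact absurd (by rw [e]) hψ
    · exact absurd (by rw [e, Su.2 _ r2 r4, Su.2 _ r2' r4']) hψ
    · exact absurd (by rw [e.uv.2 _ r2 r4, e.uv.2 _ r2' r4']) hψ
    · exact e
  obtain ⟨γ, hγ⟩ : ∃ γ : IrrCharacter G, (γ : G → ℂ) (S G (1 : F) 0) ≠ (γ : G → ℂ) (S G (1 : F) 0)⁻¹ := by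
    by_contra! hn
    exact not_real_four F r2 r4 ((isConj_iff_forall_irr _ _).2 hn)
  let γ' : IrrCharacter G := ⟨fun y => conj (γ.1 y), γ.2.conj⟩
  have hγ' : (γ' : G → ℂ) (S G (1 : F) 0) ≠ (γ' : G → ℂ) (S G (1 : F) 0)⁻¹ := fun e =>
    hγ ((starRingEnd ℂ).injective e)
  have hne : γ' ≠ γ := fun e => hγ (by
    rw [γ.2.apply_inv]; exact (congrFun (congrArg Subtype.val e) _).symm)
  have d0 : (2 ^ m * (2 * (2 ^ m) ^ 2 - 1) : ℂ) ≠ 0 := mul_ne_zero n1 n2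
  have k1 := key' γ hγ
  have k2 := key' γ' hγ'
  have k3 : c γ' = c γ := by
    rw [show (γ' : G → ℂ) 1 = conj (γ.1 1) from rfl, γ.2.isCharacter.conj_apply_one] at k2
    exact_mod_cast mul_left_cancel₀ d0 (k2.symm.trans k1)
  have k4 : ∑ φ, c φ ^ 2 = 2 := by
    rw [hc', classInner_self_of_int_coeff] at nG; exact_mod_cast nG
  rw [← add_sum_erase _ _ (mem_univ γ), ← add_sum_erase _ _ (mem_erase.2 ⟨hne, mem_univ γ'⟩), k3] at k4
  have k5 : 0 < c γ := by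
    obtain ⟨n, hn0, hn⟩ := γ.2.exists_pos_apply_one
    have e : (n : ℤ) = 2 ^ m * (2 * (2 ^ m) ^ 2 - 1) * c γ := by
      have := hn.symm.trans k1; exact_mod_cast this
    have : (1 : ℤ) ≤ 2 ^ m := one_le_pow₀ (by norm_num)
    have h3 : (0 : ℤ) < 2 ^ m * (2 * (2 ^ m) ^ 2 - 1) := by
      clear * - this
      exact mul_pos (by omega) (by nlinarith)
    exact (mul_pos_iff_of_pos_left h3).1 (by rw [← e]; exact_mod_cast hn0)
  have k6 : 0 ≤ ∑ φ ∈ (univ.erase γ).erase γ', c φ ^ 2 := sum_nonneg fun _ _ => sq_nonneg _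
  have k7 : c γ = 1 := by nlinarith
  have k8 : ∀ φ ∈ (univ.erase γ).erase γ', c φ = 0 := fun φ hφ =>
    pow_eq_zero_iff two_ne_zero |>.1 ((sum_eq_zero_iff_of_nonneg fun _ _ => sq_nonneg _).1 (by nlinarith) φ hφ)
  have k9 : ∀ y, γ.1 y + conj (γ.1 y) = Sg y := fun y => by
    rw [hc', ← add_sum_erase _ _ (mem_univ γ), ← add_sum_erase _ _ (mem_erase.2 ⟨hne, mem_univ γ'⟩), k3, k7,
      sum_eq_zero fun φ hφ => by rw [k8 φ hφ]; simp]
    simp; rfl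
  have real : ∀ y, IsConj y y⁻¹ → γ.1 y = Sg y / 2 := fun y hy => by
    rw [← k9, ← γ.2.apply_inv, ← γ.2.isClassFunction.apply_eq_of_isConj hy]; ring
  have all : ∀ χ : IrrCharacter G, ((χ : G → ℂ) = fun _ => 1) ∨ χ = St ∨ χ = γ ∨ χ = γ' ∨ ∃ ε ∈ I3, Gen m T ε χ := by
    intro χ
    rcases key χ with e | e | e | e
    iterate 3 tauto
    by_contra! hn
    rw [k8 χ (by simp [hn.2.2.1, hn.2.2.2.1])] at e
    exact χ.2.apply_one_ne_zero (by simpa using e)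
  refine ⟨St, γ, irrS, γ.2, S1, Su, Sv, by rw [k1, k7]; simp, fun y h1 h2 => ?_, fun y h2 h4 => ?_,
    fun ε hε y hy => ?_, fun e => hne (Subtype.ext e.symm), fun χ hχ => ?_, fun ε hε => ?_⟩
  · exact (real y (by rw [inv_eq_of_mul_eq_one_right h2])).trans (by rw [Gu.1 y h1 h2]; ring)
  · have e1 : conj (γ.1 y) = -γ.1 y := by
      have := k9 y
      rw [Gu.2 y h2 h4] at this; linear_combination this
    refine ⟨e1, ?_⟩
    have a1 := sum_irr_mul_conj_of_isConj (IsConj.refl y)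
    have a2 := sum_irr_mul_conj_of_not_isConj (not_real_four F h2 h4)
    have a3 : ∑ χ : IrrCharacter G, ((χ : G → ℂ) y * conj ((χ : G → ℂ) y) - (χ : G → ℂ) y * conj ((χ : G → ℂ) y⁻¹)) =
        4 * (2 ^ m) ^ 2 := by
      rw [sum_sub_distrib, a1, a2, card_cent_four F h2 h4, Nat.cast_mul, h.qC]; push_cast; ring
    have y2 : y⁻¹ * y⁻¹ ≠ 1 := by rwa [← mul_inv_rev, inv_ne_one]
    have y4 : y⁻¹ ^ 4 = 1 := by rw [inv_pow, h4, inv_one]
    rw [← add_sum_erase _ _ (mem_univ γ), ← add_sum_erase _ _ (mem_erase.2 ⟨hne, mem_univ γ'⟩),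
      sum_eq_zero fun φ hφ => ?_, γ.2.apply_inv, γ'.2.apply_inv] at a3
    · have e2 : (γ' : G → ℂ) y = -γ.1 y := e1
      have e3 : (γ : G → ℂ) y = γ.1 y := rfl
      simp only [e2, e3, map_neg, e1, neg_neg] at a3
      show γ.1 y ^ 2 = _
      linear_combination (-1 / 4 : ℂ) * a3
    simp only [mem_erase] at hφ
    rcases all φ with e | e | e | e | ⟨ε, -, e⟩
    · simp [e]
    · simp [e, Su.2 _ h2 h4]
    · exact absurd e hφ.2.1
    · exact absurd e hφ.1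
    · rw [e.uv.2 _ h2 h4, e.uv.2 _ y2 y4, sub_self]
  · exact (real y (isConj_inv F (h.odd ε hε y hy))).trans (by rw [Gv ε hε y hy]; ring)
  · rcases all ⟨χ, hχ⟩ with e | e | e | e | e
    exacts [.inl e, .inr (.inl e), .inr (.inr (.inl (congrArg Subtype.val e))),
      .inr (.inr (.inr (.inl (congrArg Subtype.val e)))), .inr (.inr (.inr (.inr e)))]
  · have hc : ∀ a b : T ε, a * b = b * a := fun a b => Subtype.ext ((h.tor ε hε).comm a.2 b.2)
    have : Nontrivial (IrrCharacter (T ε)) := by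
      rw [← Finite.one_lt_card_iff_nontrivial, card_irr_of_comm hc]
      have e := h.card ε hε
      have : (2 : ℤ) ≤ 2 ^ m := le_self_pow₀ (by norm_num) (by have := h.hm; omega)
      simp only [mem_insert, mem_singleton] at hε
      rcases hε with rfl | rfl | rfl <;> zify <;> nlinarith
    obtain ⟨χ, hχ⟩ := exists_ne (o ε)
    obtain ⟨lam, hl⟩ := χ.2.exists_hom_of_comm hc
    exact ⟨_, h.irr_R hε (χ := lam) (by rintro rfl; exact hχ (Subtype.ext hl))⟩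

end Tori

end Cfsg.Agent.SzCh
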