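import Cfsg.Agent.SzCh.Un

/-! Characters of `Sz(q)`, part 2 (helper2): strongly self-centralising subgroups `Tor T w` and the characters
induced from them; the three tori of a Suzuki group (`Tori`, `exists_tori`). -/

set_option autoImplicit false

namespace Cfsg.Agent.SzCh

open Cfsg Cfsg.Agent.Char Cfsg.Agent.CharDeep Cfsg.Agent.Sz Finset
open scoped ComplexConjugate

section
variable {G : Type*} [Group G]

/-- `T` is the centraliser of each of its non-trivial elements and has index `w` in its normaliser. -/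
structure Tor (T : Subgroup G) (w : ℕ) : Prop where
  cent : ∀ a ∈ T, a ≠ 1 → Subgroup.centralizer {a} = T
  card : Nat.card (Subgroup.normalizer (T : Set G)) = w * Nat.card T

namespace Tor

variable {T : Subgroup G} {w : ℕ} (h : Tor T w)
include h

theorem comm {a b : G} (ha : a ∈ T) (hb : b ∈ T) : a * b = b * a := by
  by_cases h1 : a = 1
  · simp [h1]
  · rw [← h.cent a ha h1, Subgroup.mem_centralizer_singleton_iff] at hb
    exact hb.symm

theorem mem_of_comm {a x : G} (ha : a ∈ T) (h1 : a ≠ 1) (e : x * a = a * x) : x ∈ T := by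
  rw [← h.cent a ha h1, Subgroup.mem_centralizer_singleton_iff]; exact e

theorem ti {a x : G} (ha : a ∈ T) (h1 : a ≠ 1) (hx : x * a * x⁻¹ ∈ T) : x ∈ Subgroup.normalizer (T : Set G) := by
  rw [← cj_eq_iff]
  have := centralizer_conj a x
  rw [h.cent _ hx (by simpa using h1), h.cent a ha h1] at this
  exact this.symm

variable [Fintype G]

theorem ind_val [Fintype (Subgroup.normalizer (T : Set G))] (χ : T → ℂ) {t : T} (h1 : t ≠ 1) :
    indFun T χ t = (Nat.card T : ℂ)⁻¹ * ∑ x, χ (T.normalizerMonoidHom x t) := by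
  classical
  rw [indFun_apply']
  congr 1
  refine (sum_of_injOn (s := (univ : Finset (Subgroup.normalizer (T : Set G)))) Subtype.val
    (fun _ _ _ _ e => Subtype.ext e) (fun _ _ => by simp) (fun x _ hx => ?_) fun x _ => ?_).symm
  · exact extendByZero_of_not_mem _ _ fun hm => hx ⟨⟨x, h.ti t.2 (by simpa using h1) hm⟩, by simp, rfl⟩
  · exact (extendByZero_coe T χ (T.normalizerMonoidHom x t)).symm

theorem ind_one {y : G} (hy : y ∈ conjSet T) : indFun T (fun _ => 1) y = w := by
  classical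
  obtain ⟨h1, x, hx⟩ := mem_conjSet.1 hy
  rw [← isClassFunction_conj' (indFun_isClassFunction _ _) y x]
  have := h.ind_val (fun _ => 1) (t := ⟨_, hx⟩) (by simpa [Subtype.ext_iff] using conj_ne_one h1)
  rw [this, sum_const, card_univ, ← Nat.card_eq_fintype_card, h.card]
  have := card_ne_zero' T
  simp only [nsmul_eq_mul]; push_cast; field_simp

theorem norm_ind (χ : T →* ℂˣ) {y : G} (hy : y ∈ conjSet T) : ‖indFun T (fun t => (χ t : ℂ)) y‖ ≤ w := by
  classical
  obtain ⟨h1, x, hx⟩ := mem_conjSet.1 hy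
  rw [← isClassFunction_conj' (indFun_isClassFunction _ _) y x]
  have := h.ind_val (fun t => (χ t : ℂ)) (t := ⟨_, hx⟩) (by simpa [Subtype.ext_iff] using conj_ne_one h1)
  have hn : ∀ t, ‖(χ t : ℂ)‖ = 1 := fun t => norm_eq_one_of_pow_orderOf (g := t) (by
    rw [← Units.val_pow_eq_pow_val, ← map_pow, pow_orderOf_eq_one]; simp)
  rw [this, norm_mul, norm_inv, Complex.norm_natCast]
  have h0 : (0 : ℝ) < Nat.card T := Nat.cast_pos.2 Nat.card_pos
  rw [inv_mul_le_iff₀ h0]
  refine (norm_sum_le _ _).trans ?_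
  simp only [hn, sum_const, card_univ, ← Nat.card_eq_fintype_card, h.card, nsmul_eq_mul]
  push_cast; linarith

theorem inner_self [Fintype T] {χ : T →* ℂˣ} (h1 : χ ≠ 1) {f : G → ℂ}
    (hf : ∀ t : T, t ≠ 1 → f t = indFun T (fun t => (χ t : ℂ)) t) :
    classInner (fun t => (χ t : ℂ)) (fun t : T => f t) = 1 + (conj (f 1) - w) / Nat.card T := by
  classical
  have h0 := card_ne_zero' T
  have hc : ∀ t, conj (χ t : ℂ) = ((χ t)⁻¹ : ℂˣ) := fun t => by
    rw [← (isCharacter_hom χ).apply_inv, map_inv]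
  have key : ∀ x : Subgroup.normalizer (T : Set G), ∑ t, (χ t : ℂ) * conj (χ (T.normalizerMonoidHom x t) : ℂ) =
      if (x : G) ∈ T then (Nat.card T : ℂ) else 0 := by
    intro x
    split_ifs with hx
    · have : ∀ t, T.normalizerMonoidHom x t = t := fun t => Subtype.ext (by
        show (x : G) * t * (x : G)⁻¹ = t
        rw [h.comm hx t.2]; group)
      simp [this, hc, Nat.card_eq_fintype_card]
    · let φ : T →* ℂ := (Units.coeHom ℂ).comp (χ * (χ.comp (T.normalizerMonoidHom x).toMonoidHom)⁻¹)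
      have e : ∀ t, (χ t : ℂ) * conj (χ (T.normalizerMonoidHom x t) : ℂ) = φ t := fun t => by
        rw [hc]; simp [φ]
      simp only [e]
      refine sum_hom_units_eq_zero φ fun hφ => h1 ?_
      have hinj : Function.Injective fun t : T => t * (T.normalizerMonoidHom x t)⁻¹ := by
        intro t u e
        have e' : (t : G) * ((x : G) * t * (x : G)⁻¹)⁻¹ = u * ((x : G) * u * (x : G)⁻¹)⁻¹ := congrArg Subtype.val e
        by_contra hne
        have hm : (u : G)⁻¹ * t ∈ T := T.mul_mem (T.inv_mem u.2) t.2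
        refine hx (h.mem_of_comm hm (fun e => hne (Subtype.ext (inv_mul_eq_one.1 e).symm)) ?_)
        have : (t : G) = u * ((x : G) * u * (x : G)⁻¹)⁻¹ * (x * t * (x : G)⁻¹) := by rw [← e']; group
        calc (x : G) * ((u : G)⁻¹ * t) = (u : G)⁻¹ * (u * ((x : G) * u * (x : G)⁻¹)⁻¹ * (x * t * (x : G)⁻¹)) * x := by
              group
          _ = _ := by rw [← this]
      ext t
      obtain ⟨u, rfl⟩ := Finite.surjective_of_injective hinj t
      have := DFunLike.congr_fun hφ u
      simpa [φ] using this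
  have hs : ∑ t : T, (χ t : ℂ) * conj ((Nat.card T : ℂ)⁻¹ * ∑ x, (χ (T.normalizerMonoidHom x t) : ℂ)) =
      Nat.card T := by
    simp only [map_mul, map_sum, map_inv₀, Complex.conj_natCast, mul_left_comm _ (Nat.card T : ℂ)⁻¹, mul_sum]
    rw [sum_comm]
    simp only [← mul_sum, key, ← sum_filter, sum_const, nsmul_eq_mul]
    have : ((univ : Finset (Subgroup.normalizer (T : Set G))).filter
        fun x : Subgroup.normalizer (T : Set G) => (x : G) ∈ T).card = Nat.card T := by
      rw [← Fintype.card_subtype, ← Nat.card_eq_fintype_card]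
      exact Nat.card_congr (Subgroup.subgroupOfEquivOfLe Subgroup.le_normalizer).toEquiv
    rw [this]; field_simp
  rw [← add_sum_erase _ _ (mem_univ 1)] at hs
  rw [classInner_def, ← add_sum_erase _ _ (mem_univ 1), sum_congr rfl fun t ht => by
    rw [hf t (ne_of_mem_erase ht), h.ind_val _ (ne_of_mem_erase ht)], eq_sub_of_add_eq' hs]
  simp only [map_one, Units.val_one, sum_const, card_univ, ← Nat.card_eq_fintype_card, h.card, nsmul_eq_mul,
    OneMemClass.coe_one, map_mul, map_inv₀, Complex.conj_natCast]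
  push_cast; field_simp; ring

end Tor

theorem inner_one [Fintype G] (T : Subgroup G) {f : G → ℂ} (hf : IsClassFunction G f) {c : ℂ}
    (hc : ∀ y ∈ conjSet T, f y = c) :
    classInner (indFun T fun _ => 1) f = (conj (f 1) + (Nat.card T - 1) * conj c) / Nat.card T := by
  classical
  rw [classInner_indFun_left _ _ hf, classInner_def, ← add_sum_erase _ _ (mem_univ 1), sum_congr rfl fun t ht => by
    rw [hc _ (mem_conjSet_of_mem t.2 (by simpa using ne_of_mem_erase ht))]]
  simp only [one_mul, sum_const, card_erase_of_mem (mem_univ _), card_univ, ← Nat.card_eq_fintype_card, nsmul_eq_mul,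
    OneMemClass.coe_one]
  rw [Nat.cast_sub Nat.card_pos]; push_cast; ring

theorem ind_zero [Fintype G] (T : Subgroup G) (χ : T → ℂ) {y : G} (h1 : y ≠ 1) (hy : y ∉ conjSet T) :
    indFun T χ y = 0 :=
  indFun_eq_zero_of_forall_not_mem _ _ fun x hx => hy (mem_conjSet.2 ⟨h1, x⁻¹, by simpa using hx⟩)

theorem sum_ind [Fintype G] [DecidableEq G] {T : Subgroup G} (hT : ∀ a ∈ T, ∀ b ∈ T, a * b = b * a) :
    ∑ χ : IrrCharacter T, indFun T χ = fun y => if y = 1 then (Nat.card G : ℂ) else 0 := by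
  classical
  rw [← indFun_sum]
  have hc : ∀ a b : T, a * b = b * a := fun a b => Subtype.ext (hT _ a.2 _ b.2)
  have e : ∀ t : T, (∑ χ : IrrCharacter T, (χ : T → ℂ)) t = if t = 1 then (Nat.card T : ℂ) else 0 := fun t => by
    rw [← sum_irr_degree_mul_eq_ite, Finset.sum_apply]
    exact sum_congr rfl fun χ _ => by rw [χ.2.apply_one_of_comm hc, one_mul]
  funext y
  split_ifs with h1
  · rw [h1, indFun_one, e, if_pos rfl, ← T.index_mul_card, Nat.cast_mul]
  · refine indFun_eq_zero_of_forall _ _ fun x hx => ?_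
    rw [e, if_neg (by simpa [Subtype.ext_iff] using h1)]

end

/-- The signs `0, 1, -1` of the three tori. -/
abbrev I3 : Finset ℤ := {0, 1, -1}

variable {F : Type*} [Field F] [Tits F] [Finite F] {G : Type*} [Group G] [SzRep F G]

variable (F) in
/-- The tori of orders `q - 1`, `q + 2 s + 1`, `q - 2 s + 1`, `q = 2 s²`. -/
structure Tori (m : ℕ) (T : ℤ → Subgroup G) : Prop where
  hq : Nat.card F = 2 ^ (2 * m + 1)
  hm : 1 ≤ m
  tor : ∀ ε ∈ I3, Tor (T ε) (2 + 2 * ε.natAbs)
  card : ∀ ε ∈ I3, (Nat.card (T ε) : ℤ) = 2 * (2 ^ m) ^ 2 - 1 + 2 * ε ^ 2 + 2 * 2 ^ m * ε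
  cover : ∀ y : G, y ^ 4 = 1 ∨ ∃ ε ∈ I3, y ∈ conjSet (T ε)
  disj : ∀ ε ∈ I3, ∀ δ ∈ I3, ∀ y ∈ conjSet (T ε), y ∈ conjSet (T δ) → ε = δ
  odd : ∀ ε ∈ I3, ∀ y ∈ conjSet (T ε), Odd (orderOf y)

variable (F) in
include F in
theorem isConj_inv {y : G} (ho : Odd (orderOf y)) : IsConj y y⁻¹ := by
  have := finite_G F G
  by_cases h1 : y = 1
  · simp [h1]
  have hc := card_normalizer_centralizer (F := F) h1 ho
  have : Fact (Nat.Prime 2) := ⟨Nat.prime_two⟩
  obtain ⟨z, hz⟩ := exists_prime_orderOf_dvd_card' (G := Subgroup.normalizer (Subgroup.centralizer {y} : Set G)) 2 (by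
    rw [hc]; refine Dvd.dvd.mul_right (dvd_pow_self _ ?_) _
    split_ifs <;> norm_num)
  have hz' : orderOf (z : G) = 2 := by rw [Subgroup.orderOf_coe, hz]
  have hzz : (z : G) * z = 1 := by rw [← sq, ← hz', pow_orderOf_eq_one]
  have := conj_eq_inv F h1 ho (z := z) (by intro e; rw [e] at hz'; simp at hz') hzz z.2 (mem_centralizer_self y)
  exact isConj_iff.2 ⟨z, by rw [← this, inv_eq_of_mul_eq_one_right hzz]⟩

variable (F G) in
theorem exists_tori {m : ℕ} (hm : 1 ≤ m) (hq : Nat.card F = 2 ^ (2 * m + 1)) :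
    ∃ T : ℤ → Subgroup G, Tori F m T ∧ T 0 = H F G := by
  classical
  obtain ⟨g, x, hg, hx, cg, cx⟩ := exists_fpf_card G hq
  obtain ⟨a1, a2, a3⟩ := arith_tori hm
  have tf : ∀ {g : G}, Fpf F g → Tor (Subgroup.centralizer {g}) 4 := fun hg =>
    ⟨fun a ha h1 => hg.centralizer_eq ha h1, hg.card_normalizer⟩
  have h2 : 2 ^ (m + 1) ≤ 2 ^ (2 * m + 1) := Nat.pow_le_pow_right (by norm_num) (by omega)
  have nH : ∀ y ∈ conjSet (H F G), ¬ Fpf F y := fun y hy => by
    obtain ⟨-, z, hz⟩ := mem_conjSet.1 hy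
    exact not_fpf_of_conj_mem_B (H_le_B hz)
  have gx : ∀ y ∈ conjSet (Subgroup.centralizer {g}), y ∉ conjSet (Subgroup.centralizer {x}) := fun y h1 h2 => by
    have e1 := hg.card_eq_of_mem_conjSet h1
    rw [hx.card_eq_of_mem_conjSet h2, cg, cx] at e1
    have : 0 < 2 ^ (m + 1) := by positivity
    omega
  refine ⟨fun ε => if ε = 0 then H F G else if ε = 1 then Subgroup.centralizer {g} else Subgroup.centralizer {x},
    ⟨hq, hm, ?_, ?_, fun y => ?_, ?_, ?_⟩, by simp⟩
  · simp only [mem_insert, mem_singleton]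
    rintro ε (rfl | rfl | rfl)
    · exact ⟨fun a ha h1 => centralizer_H ha h1, by simpa [card_H] using card_normalizer_H⟩
    · exact tf hg
    · exact tf hx
  · simp only [mem_insert, mem_singleton]
    rintro ε (rfl | rfl | rfl)
    · simp only [if_true, card_H, hq]
      rw [Nat.cast_sub Nat.one_le_two_pow]; push_cast; ring
    · simp only [one_ne_zero, if_false, if_true, cg]; push_cast; ring
    · simp only [show (-1 : ℤ) ≠ 0 by decide, show (-1 : ℤ) ≠ 1 by decide, if_false, cx]
      push_cast [Nat.cast_sub h2]; ring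
  · rcases elt_cases F y with ⟨z, hz⟩ | ⟨z, l, hl, hz⟩ | hy
    · left
      have := pow_four_of_mem_U hz
      rwa [show z⁻¹ * y * z = z⁻¹ * y * z⁻¹⁻¹ by simp, conj_pow, conj_eq_one_iff] at this
    · refine Or.inr ⟨0, by simp, mem_conjSet.2 ⟨?_, z, by simp [hz, M_mem_H]⟩⟩
      rintro rfl
      exact hl (M_eq_one.1 (by rw [← hz]; simp))
    · right
      have h5 := hy.five_le
      rcases hy.card_centralizer hq with e | e
      · exact ⟨1, by simp, by simpa using hg.mem_conjSet_of_not_coprime hy (by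
          rw [cg, ← e, Nat.coprime_self]; omega)⟩
      · exact ⟨-1, by simp, by simpa using hx.mem_conjSet_of_not_coprime hy (by
          rw [cx, ← e, Nat.coprime_self]; omega)⟩
  · simp only [mem_insert, mem_singleton]
    rintro ε (rfl | rfl | rfl) δ (rfl | rfl | rfl) y h1 h2 <;> simp at h1 h2 ⊢
    exacts [nH y h1 (hg.of_mem_conjSet h2), nH y h1 (hx.of_mem_conjSet h2), nH y h2 (hg.of_mem_conjSet h1), gx y h1 h2,
      nH y h2 (hx.of_mem_conjSet h1), gx y h2 h1]
  · simp only [mem_insert, mem_singleton]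
    rintro ε (rfl | rfl | rfl) y h1 <;> simp at h1
    · obtain ⟨-, z, hz⟩ := mem_conjSet.1 h1
      exact odd_of_mem_cj_H (mem_cj.2 hz)
    exacts [(hg.of_mem_conjSet h1).odd, (hx.of_mem_conjSet h1).odd]

end Cfsg.Agent.SzCh
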