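import Cfsg.Agent.Sz.Torus
import Cfsg.Agent.Char.Misc

/-! Characters of `Sz(q)`, part 1 (helper2): the class functions `un a b c` supported on the 2-elements; the virtual
characters `gen_N`, `gen_M` induced from the Sylow 2-subgroup; inner products `inner_un`. -/

set_option autoImplicit false

namespace Cfsg.Agent.SzCh

open Cfsg Cfsg.Agent.Char Cfsg.Agent.CharDeep Cfsg.Agent.Sz Finset
open scoped ComplexConjugate

section
variable {G : Type*} [Group G]

open Classical in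
/-- Value `a` at `1`, `b` on involutions, `c` on elements of order four. -/
noncomputable def un (a b c : ℂ) : G → ℂ :=
  fun y => if y = 1 then a else if y * y = 1 then b else if y ^ 4 = 1 then c else 0

theorem un_one (a b c : ℂ) : un a b c (1 : G) = a := by simp [un]

theorem un_two (a b c : ℂ) {y : G} (h1 : y ≠ 1) (h2 : y * y = 1) : un a b c y = b := by simp [un, h1, h2]

theorem un_four (a b c : ℂ) {y : G} (h2 : y * y ≠ 1) (h4 : y ^ 4 = 1) : un a b c y = c := by
  have h1 : y ≠ 1 := by rintro rfl; simp at h2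
  simp [un, h1, h2, h4]

theorem sq_four {y : G} (h : y * y = 1) : y ^ 4 = 1 := by
  rw [show y ^ 4 = (y * y) * (y * y) by simp only [pow_succ, pow_zero, one_mul, mul_assoc], h, one_mul]

theorem un_zero (a b c : ℂ) {y : G} (h4 : y ^ 4 ≠ 1) : un a b c y = 0 := by
  have h1 : y ≠ 1 := by rintro rfl; simp at h4
  have h2 : y * y ≠ 1 := fun h => h4 (sq_four h)
  simp [un, h1, h2, h4]

theorem un_class (a b c : ℂ) : IsClassFunction G (un a b c) := by
  intro g h
  have h1 : h * g * h⁻¹ = 1 ↔ g = 1 := conj_eq_one_iff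
  have h2 : h * g * h⁻¹ * (h * g * h⁻¹) = 1 ↔ g * g = 1 := by rw [conj_mul, conj_eq_one_iff]
  have h4 : (h * g * h⁻¹) ^ 4 = 1 ↔ g ^ 4 = 1 := by rw [conj_pow, conj_eq_one_iff]
  unfold un
  rw [propext h1, propext h2, propext h4]

theorem un_lin (k : ℂ) (a b c a' b' c' : ℂ) :
    (un a b c + k • un a' b' c' : G → ℂ) = un (a + k * a') (b + k * b') (c + k * c') := by
  funext y
  simp only [un, Pi.add_apply, Pi.smul_apply, smul_eq_mul]
  split_ifs <;> simp

/-- `f` takes the value `b` on involutions and `c` on elements of order four. -/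
def UV (f : G → ℂ) (b c : ℂ) : Prop :=
  (∀ y, y ≠ 1 → y * y = 1 → f y = b) ∧ ∀ y, y * y ≠ 1 → y ^ 4 = 1 → f y = c

end

variable {F : Type*} [Field F] [Tits F] [Finite F] {G : Type*} [Group G] [SzRep F G]

theorem exists_conj_U {y : G} (h : y ^ 4 = 1) : ∃ x : G, x⁻¹ * y * x ∈ U F G := by
  by_cases h1 : y = 1
  · exact ⟨1, by simp [h1, (U F G).one_mem]⟩
  have he : Even (orderOf y) := by
    have h2 : orderOf y ∣ 2 ^ 2 := orderOf_dvd_of_pow_eq_one h
    obtain ⟨k, -, hk⟩ := (Nat.dvd_prime_pow Nat.prime_two).1 h2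
    rcases k with _ | k
    · exact absurd (orderOf_eq_one_iff.1 hk) h1
    · rw [hk]; exact Nat.even_pow.2 ⟨even_two, k.succ_ne_zero⟩
  obtain ⟨x, hx⟩ := exists_cj_U_of_even (F := F) he
  exact ⟨x, mem_cj.1 hx⟩

theorem mem_conjSet_U {y : G} : y ∈ conjSet (U F G) ↔ y ≠ 1 ∧ y ^ 4 = 1 := by
  rw [mem_conjSet]
  refine and_congr_right fun _ => ⟨fun ⟨x, hx⟩ => ?_, exists_conj_U⟩
  have := pow_four_of_mem_U hx
  rwa [show x⁻¹ * y * x = x⁻¹ * y * x⁻¹⁻¹ by simp, conj_pow, conj_eq_one_iff] at this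

open Classical in
variable (F G) in
theorem card_two [Fintype G] : (((univ : Finset G).filter fun y => y ≠ 1 ∧ y * y = 1).card : ℂ) =
    ((Nat.card F : ℂ) ^ 2 + 1) * (Nat.card F - 1) := by
  have h := ncard_involutions F G
  have h4 := four_le_card F
  rw [Set.ncard_eq_toFinset_card', Set.toFinset_ofPred] at h
  rw [h]; push_cast [Nat.cast_sub (show 1 ≤ Nat.card F by omega)]; ring

open Classical in
variable (F G) in
theorem card_four [Fintype G] : (((univ : Finset G).filter fun y => y * y ≠ 1 ∧ y ^ 4 = 1).card : ℂ) =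
    ((Nat.card F : ℂ) ^ 2 + 1) * (Nat.card F - 1) * Nat.card F := by
  have h := ncard_conjSet_U (F := F) (G := G)
  have h4 := four_le_card F
  have e : conjSet (U F G) = {y : G | y ≠ 1 ∧ y ^ 4 = 1} := Set.ext fun _ => mem_conjSet_U
  rw [e, Set.ncard_eq_toFinset_card', Set.toFinset_ofPred] at h
  have h2 := card_filter_add_card_filter_not (s := (univ : Finset G).filter fun y => y ≠ 1 ∧ y ^ 4 = 1)
    (fun y => y * y = 1)
  rw [filter_filter, filter_filter, h] at h2
  have e1 : ((univ : Finset G).filter fun y => (y ≠ 1 ∧ y ^ 4 = 1) ∧ y * y = 1) =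
      univ.filter fun y => y ≠ 1 ∧ y * y = 1 :=
    filter_congr fun y _ => ⟨fun h => ⟨h.1.1, h.2⟩, fun h => ⟨⟨h.1, sq_four h.2⟩, h.2⟩⟩
  have e2 : ((univ : Finset G).filter fun y => (y ≠ 1 ∧ y ^ 4 = 1) ∧ ¬ y * y = 1) =
      univ.filter fun y => y * y ≠ 1 ∧ y ^ 4 = 1 :=
    filter_congr fun y _ => ⟨fun h => ⟨h.2, h.1.2⟩, fun h => ⟨⟨by rintro rfl; simp at h, h.2⟩, h.1⟩⟩
  rw [e1, e2] at h2
  have h3 := congrArg (Nat.cast : ℕ → ℂ) h2
  have h5 : 1 ≤ Nat.card F ^ 2 := Nat.one_le_pow _ _ (by omega)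
  push_cast [Nat.cast_sub h5] at h3
  rw [card_two F G] at h3
  linear_combination h3

variable (F G) in
theorem card_G' : (Nat.card G : ℂ) = (Nat.card F : ℂ) ^ 2 * ((Nat.card F : ℂ) ^ 2 + 1) * (Nat.card F - 1) := by
  have h4 := four_le_card F
  rw [card_G (F := F)]; push_cast [Nat.cast_sub (show 1 ≤ Nat.card F by omega)]; ring

variable (F) in
theorem inner_un [Fintype G] (a b c : ℂ) {f : G → ℂ} {b' c' : ℂ} (h : UV f b' c') :
    classInner (un a b c) f = (Nat.card G : ℂ)⁻¹ * (a * conj (f 1) +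
      ((Nat.card F : ℂ) ^ 2 + 1) * (Nat.card F - 1) * (b * conj b' + Nat.card F * c * conj c')) := by
  classical
  rw [classInner_def]
  congr 1
  have e : ∀ y : G, un a b c y * conj (f y) = (if y = 1 then a * conj (f 1) else 0) +
      (if y ≠ 1 ∧ y * y = 1 then b * conj b' else 0) + (if y * y ≠ 1 ∧ y ^ 4 = 1 then c * conj c' else 0) := by
    intro y
    by_cases h1 : y = 1
    · simp [h1, un_one]
    by_cases h2 : y * y = 1
    · simp [h1, h2, un_two _ _ _ h1 h2, h.1 y h1 h2]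
    by_cases h4 : y ^ 4 = 1
    · simp [h1, h2, h4, un_four _ _ _ h2 h4, h.2 y h2 h4]
    · simp [h1, h2, h4, un_zero _ _ _ h4]
  simp only [e, sum_add_distrib, sum_ite_eq', mem_univ, if_true, ← sum_filter, sum_const, nsmul_eq_mul]
  rw [card_two F G, card_four F G]; ring

omit [Finite F] in
theorem sum_U [Fintype F] [Fintype (U F G)] (f : U F G → ℂ) :
    ∑ u, f u = ∑ a : F, ∑ b : F, f ⟨S G a b, S_mem_U a b⟩ := by
  rw [← Fintype.sum_prod_type', ← Equiv.sum_comp (UEquiv (F := F) (G := G))]; rfl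

theorem ind_U [Fintype G] [Fintype Fˣ] (φ : F → F → ℂ) {f : U F G → ℂ} (hf : IsClassFunction (U F G) f)
    (hφ : ∀ a b, f ⟨S G a b, S_mem_U a b⟩ = φ a b) {b0 c0 : ℂ}
    (hb : ∀ b, b ≠ 0 → ∑ l : Fˣ, φ 0 ((l : F) ^ 2 * θ (l : F) * b) = b0)
    (hc : ∀ a b, a ≠ 0 → ∑ l : Fˣ, φ (θ (l : F) * a) ((l : F) ^ 2 * θ (l : F) * b) = c0) :
    indFun (U F G) f = un (((Nat.card F : ℂ) ^ 2 + 1) * (Nat.card F - 1) * φ 0 0) b0 c0 := by
  classical
  have := Fintype.ofFinite F
  have h4 := four_le_card F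
  have key : ∀ a b : F, S G a b ≠ 1 →
      indFun (U F G) f (S G a b) = ∑ l : Fˣ, φ (θ (l : F) * a) ((l : F) ^ 2 * θ (l : F) * b) := by
    intro a b h1
    rw [indFun_apply', ← sum_of_injOn (s := (univ : Finset ((F × F) × Fˣ)))
      (f := fun p => φ (θ (p.2 : F) * a) ((p.2 : F) ^ 2 * θ (p.2 : F) * b))
      (fun p => S G p.1.1 p.1.2 * M G p.2) (fun p _ p' _ e => by
        obtain ⟨e1, e2, e3⟩ := S_mul_M_inj e
        exact Prod.ext (Prod.ext e1 e2) e3) (fun _ _ => by simp) (fun x _ hx => by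
        refine extendByZero_of_not_mem _ _ fun hm => hx ?_
        obtain ⟨c, d, l, rfl⟩ := mem_B.1 (mem_B_of_conj_mem_U hm h1 (S_mem_B a b))
        exact ⟨((c, d), l), by simp, rfl⟩) (fun p _ => by
        rw [show S G p.1.1 p.1.2 * M G p.2 * S G a b * (S G p.1.1 p.1.2 * M G p.2)⁻¹ =
          S G p.1.1 p.1.2 * (M G p.2 * S G a b * (M G p.2)⁻¹) * (S G p.1.1 p.1.2)⁻¹ by group, M_conj_S,
          extendByZero_conj_mem _ hf (S_mem_U _ _), extendByZero_of_mem _ _ (S_mem_U _ _), hφ])]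
    rw [Fintype.sum_prod_type]
    simp only [sum_const, card_univ, nsmul_eq_mul, card_U, ← Nat.card_eq_fintype_card, Nat.card_prod]
    have : (Nat.card F : ℂ) ≠ 0 := Nat.cast_ne_zero.2 (by omega)
    rw [← mul_assoc]; push_cast; rw [sq, inv_mul_cancel₀ (mul_ne_zero this this), one_mul]
  funext y
  by_cases hy : y ^ 4 = 1
  · obtain ⟨x, a, b, hx⟩ := exists_conj_U (F := F) hy
    rw [← isClassFunction_conj' (indFun_isClassFunction _ _) y x, ← isClassFunction_conj' (un_class _ _ _) y x, hx]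
    by_cases h1 : S G a b = 1
    · rw [h1, indFun_one, un_one, index_U, ← hφ]
      push_cast [Nat.cast_sub (show 1 ≤ Nat.card F by omega)]
      congr 2; exact Subtype.ext S_zero.symm
    rw [key a b h1]
    by_cases ha : a = 0
    · subst ha
      rw [un_two _ _ _ h1 (S_zero_mul_self b), ← hb b fun e => h1 (S_eq_one.2 ⟨rfl, e⟩)]
      simp
    · rw [un_four _ _ _ (mt S_mul_self_eq_one.1 ha) (S_pow_four a b), hc a b ha]
  · rw [un_zero _ _ _ hy]
    refine indFun_eq_zero_of_forall_not_mem _ _ fun x hx => hy ?_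
    have := pow_four_of_mem_U hx
    rwa [conj_pow, conj_eq_one_iff] at this

omit [Tits F] in
theorem sum_units [Fintype Fˣ] {ψ : AddChar F ℂ} (hψ : ψ ≠ 1) {e : Fˣ → F} (he : Function.Injective e)
    (h0 : ∀ l, e l ≠ 0) : ∑ l, ψ (e l) = -1 := by
  classical
  have := Fintype.ofFinite F
  have h := AddChar.sum_eq_zero_of_ne_one hψ
  rw [← add_sum_erase _ _ (mem_univ 0), AddChar.map_zero_eq_one] at h
  have e1 : univ.image e = univ.erase 0 := by
    refine eq_of_subset_of_card_le (fun x hx => ?_) ?_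
    · obtain ⟨l, -, rfl⟩ := mem_image.1 hx
      simp [h0 l]
    · rw [card_image_of_injective _ he, card_erase_of_mem (mem_univ _), card_univ, card_univ,
        ← Nat.card_eq_fintype_card, ← Nat.card_eq_fintype_card, Nat.card_units]
  rw [← e1, sum_image fun _ _ _ _ h => he h] at h
  linear_combination h

variable (F) in
omit [Tits F] in
theorem exists_psi : ∃ ψ : AddChar F ℂ, ψ ≠ 1 := by
  have := Fintype.ofFinite F
  have : Nontrivial (AddChar F ℂ) := by
    rw [← Fintype.one_lt_card_iff_nontrivial, AddChar.card_eq]; exact Fintype.one_lt_card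
  exact exists_ne 1

omit [Finite F] in
theorem UEquiv_symm (a b : F) : (UEquiv (F := F) (G := G)).symm ⟨S G a b, S_mem_U a b⟩ = (a, b) :=
  (Equiv.symm_apply_eq _).2 rfl

variable (F G) in
theorem gen_N [Fintype G] : IsGeneralizedCharacter G
    (un (((Nat.card F : ℂ) ^ 2 + 1) * (Nat.card F - 1)) (Nat.card F - 1) (-1)) := by
  classical
  have := Fintype.ofFinite Fˣ
  have h4 := four_le_card F
  obtain ⟨ψ, hψ⟩ := exists_psi F
  let ν : U F G →* ℂ :=
    { toFun := fun u => ψ (UEquiv.symm u).1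
      map_one' := by
        rw [show (1 : U F G) = ⟨S G 0 0, S_mem_U 0 0⟩ from Subtype.ext S_zero.symm, UEquiv_symm]; simp
      map_mul' := by
        rintro ⟨_, a, b, rfl⟩ ⟨_, c, d, rfl⟩
        rw [show (⟨S G a b, a, b, rfl⟩ * ⟨S G c d, c, d, rfl⟩ : U F G) = ⟨S G _ _, S_mem_U _ _⟩ from
          Subtype.ext (S_mul_S a b c d), UEquiv_symm]
        erw [UEquiv_symm, UEquiv_symm]
        exact AddChar.map_add_eq_mul _ _ _ }
  have hν : IsCharacter (U F G) fun u => (ν.toHomUnits u : ℂ) := isCharacter_hom _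
  have := ind_U (fun a _ => ψ a) hν.isClassFunction (b0 := Nat.card F - 1) (c0 := -1)
    (fun a b => by simp [ν, UEquiv_symm]) (fun b _ => by
      simp only [AddChar.map_zero_eq_one, sum_const, card_univ, ← Nat.card_eq_fintype_card, Nat.card_units,
        nsmul_eq_mul, mul_one, Nat.cast_sub (show 1 ≤ Nat.card F by omega), Nat.cast_one])
    (fun a b ha => sum_units hψ (fun l k e => Units.ext (θ_inj.1 (mul_right_cancel₀ ha e)))
      fun l => mul_ne_zero (θ_ne_zero l.ne_zero) ha)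
  simp only [AddChar.map_zero_eq_one, mul_one] at this
  rw [← this]
  exact (isCharacter_indFun _ hν).isGeneralizedCharacter

theorem exists_rad {ψ : AddChar F ℂ} (hψ : ψ ≠ 1) :
    ∃ a0 : F, ∀ a, a ≠ 0 → a ≠ a0 → ∃ c, ψ (θ c * a + θ a * c) ≠ 1 := by
  have := Fintype.ofFinite F
  have hp := AddChar.IsPrimitive.of_ne_one hψ
  obtain ⟨γ, hγ⟩ := ((Fintype.bijective_iff_injective_and_card _).2
    ⟨AddChar.to_mulShift_inj_of_isPrimitive hp, AddChar.card_eq.symm⟩).2
      (ψ.compAddMonoidHom (θ : F →+* F).toAddMonoidHom)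
  have hγ : ∀ x, ψ (γ * x) = ψ (θ x) := fun x => DFunLike.congr_fun hγ x
  refine ⟨θ γ, fun a h0 h1 => ?_⟩
  by_contra! hn
  obtain ⟨t, rfl⟩ := θ_surjective a
  have ht : t ≠ 0 := by rintro rfl; simp at h0
  have h2 : γ * t + t ^ 2 ≠ 0 := by
    intro e
    rw [add_eq_zero_iff', sq] at e
    exact h1 (by rw [mul_right_cancel₀ ht e])
  refine hp h2 (AddChar.ext _ _ fun c => ?_)
  have := hn c
  rw [← map_mul, AddChar.map_add_eq_mul, ← hγ, θθ, ← AddChar.map_add_eq_mul] at this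
  rw [AddChar.mulShift_apply, AddChar.one_apply, ← this]
  congr 1; ring

variable (G) in
theorem gen_M [Fintype G] {m : ℕ} (hq : Nat.card F = 2 ^ (2 * m + 1)) : IsGeneralizedCharacter G
    (un (((Nat.card F : ℂ) ^ 2 + 1) * (Nat.card F - 1) * (2 * 2 ^ m)) (-(2 * 2 ^ m)) 0) := by
  classical
  have := Fintype.ofFinite Fˣ
  have := Fintype.ofFinite F
  have := Fintype.ofFinite (U F G)
  have h4 := four_le_card F
  obtain ⟨ψ, hψ⟩ := exists_psi F
  let φ : F → F → ℂ := fun a b => if a = 0 then 2 * 2 ^ m * ψ b else 0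
  let f : U F G → ℂ := fun u => φ (UEquiv.symm u).1 (UEquiv.symm u).2
  have hφ : ∀ a b, f ⟨S G a b, S_mem_U a b⟩ = φ a b := fun a b => by simp only [f, UEquiv_symm]
  have hf : IsClassFunction (U F G) f := by
    rintro ⟨_, a, b, rfl⟩ ⟨_, c, d, rfl⟩
    rw [show (⟨S G c d, c, d, rfl⟩ * ⟨S G a b, a, b, rfl⟩ * ⟨S G c d, c, d, rfl⟩⁻¹ : U F G) =
      ⟨S G _ _, S_mem_U _ _⟩ from Subtype.ext (S_conj_S c d a b), hφ]
    erw [hφ]
    by_cases ha : a = 0 <;> simp [φ, ha]
  have hg : IsGeneralizedCharacter (U F G) f := by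
    refine hf.isGeneralizedCharacter_of_forall_int fun χ hχ => ?_
    obtain ⟨lam, hl⟩ := hχ.exists_hom_of_le_center ((Z F G).subgroupOf (U F G)) fun z hz =>
      Subgroup.mem_center_iff.2 fun u => Subtype.ext (Z_comm hz u.2).symm
    let ω : AddChar F ℂ :=
      { toFun := fun b => lam ⟨⟨S G 0 b, S_mem_U 0 b⟩, S_mem_Z b⟩
        map_zero_eq_one' := by
          rw [show (⟨⟨S G 0 0, S_mem_U 0 0⟩, S_mem_Z 0⟩ : (Z F G).subgroupOf (U F G)) = 1 from
            Subtype.ext (Subtype.ext S_zero)]; simp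
        map_add_eq_mul' := fun b c => by
          rw [← Units.val_mul, ← map_mul]; congr 2
          exact Subtype.ext (Subtype.ext (by simp [S_mul_S])) }
    have hω : ∀ a b c : F, χ ⟨S G a (b + c), S_mem_U _ _⟩ = ω c * χ ⟨S G a b, S_mem_U _ _⟩ := fun a b c => by
      refine Eq.trans ?_ (hl ⟨⟨S G 0 c, S_mem_U 0 c⟩, S_mem_Z c⟩ _)
      congr 1; exact Subtype.ext (by simp [S_mul_S, add_comm])
    have h00 : (⟨S G 0 0, S_mem_U 0 0⟩ : U F G) = 1 := Subtype.ext S_zero
    have hω0 : ∀ c : F, χ ⟨S G 0 c, S_mem_U _ _⟩ = ω c * χ 1 := fun c => by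
      rw [← h00, ← hω]; simp
    have e1 : classInner f χ = (Nat.card (U F G) : ℂ)⁻¹ * (2 * 2 ^ m * χ 1 * ∑ b, (ψ * ω⁻¹) b) := by
      rw [classInner_def, sum_U, sum_eq_single 0 (fun a _ ha => by simp [hφ, φ, ha]) (by simp)]
      congr 1
      rw [mul_sum]
      refine sum_congr rfl fun b _ => ?_
      rw [hφ, hω0, map_mul, hχ.isCharacter.conj_apply_one, AddChar.mul_apply, AddChar.inv_apply,
        AddChar.map_neg_eq_conj]
      simp only [φ, if_true]; ring
    by_cases he : ψ * ω⁻¹ = 1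
    swap
    · exact ⟨0, by rw [e1, AddChar.sum_eq_zero_of_ne_one he]; simp⟩
    have he' : ω = ψ := (mul_inv_eq_one.1 he).symm
    obtain ⟨a0, ha0⟩ := exists_rad hψ
    have hv : ∀ a b : F, a ≠ 0 → a ≠ a0 → χ ⟨S G a b, S_mem_U _ _⟩ = 0 := by
      intro a b h0 h1
      obtain ⟨c, hc⟩ := ha0 a h0 h1
      have h2 := hχ.isClassFunction ⟨S G a b, S_mem_U _ _⟩ ⟨S G c 0, S_mem_U _ _⟩
      rw [show (⟨S G c 0, S_mem_U _ _⟩ * ⟨S G a b, S_mem_U _ _⟩ * ⟨S G c 0, S_mem_U _ _⟩⁻¹ : U F G) =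
        ⟨S G a (b + (θ c * a + θ a * c)), S_mem_U _ _⟩ from Subtype.ext (by
          rw [← add_assoc]; exact S_conj_S c 0 a b), hω, he'] at h2
      exact (mul_left_eq_self₀.1 h2).resolve_left hc
    obtain ⟨n, hn0, hn⟩ := hχ.exists_pos_apply_one
    have hb : (Nat.card (U F G) : ℝ) ≤ 2 * Nat.card F * (n : ℝ) ^ 2 := by
      rw [← hχ.sum_norm_sq, ← Equiv.sum_comp (UEquiv (F := F) (G := G)), Fintype.sum_prod_type,
        ← sum_subset (subset_univ {0, a0}) fun a _ ha => sum_eq_zero fun b _ => by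
          simp only [mem_insert, mem_singleton, not_or] at ha
          rw [show UEquiv (a, b) = (⟨S G a b, S_mem_U _ _⟩ : U F G) from rfl, hv a b ha.1 ha.2]; simp]
      refine (sum_le_card_nsmul _ _ (Nat.card F * (n : ℝ) ^ 2) fun a _ => ?_).trans ?_
      · refine (sum_le_card_nsmul _ _ ((n : ℝ) ^ 2) fun b _ => ?_).trans ?_
        · have := hχ.isCharacter.norm_apply_le (UEquiv (a, b))
          rw [hn, Complex.norm_natCast] at this
          gcongr
        · simp [Nat.card_eq_fintype_card]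
      · rw [nsmul_eq_mul, mul_assoc]
        gcongr; exact_mod_cast card_le_two
    have hd := hχ.dvd_card_of_apply_one hn
    rw [card_U, hq, ← pow_mul] at hd
    obtain ⟨k, -, rfl⟩ := (Nat.dvd_prime_pow Nat.prime_two).1 hd
    rw [card_U, hq] at hb
    have hb' : 2 ^ ((2 * m + 1) * 2) ≤ 2 ^ (1 + (2 * m + 1) + k * 2) := by
      rw [pow_add, pow_add, pow_mul, pow_mul]; exact_mod_cast hb
    have hk := (Nat.pow_le_pow_iff_right (by norm_num)).1 hb'
    obtain ⟨j, rfl⟩ : ∃ j, k = m + j := ⟨k - m, by omega⟩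
    refine ⟨2 ^ j, ?_⟩
    rw [e1, he, hn, card_U]
    simp only [AddChar.one_apply, sum_const, card_univ, nsmul_eq_mul, ← Nat.card_eq_fintype_card, hq]
    push_cast; field_simp; ring
  have := ind_U φ hf (b0 := -(2 * 2 ^ m)) (c0 := 0) hφ (fun b hb => by
      simp only [φ, if_true, ← mul_sum]
      rw [sum_units hψ (fun l k e => Units.ext (sq_mul_θ_inj (mul_right_cancel₀ hb e)))
        fun l => mul_ne_zero (mul_ne_zero (pow_ne_zero _ l.ne_zero) (θ_ne_zero l.ne_zero)) hb]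
      ring)
    (fun a b ha => sum_eq_zero fun l _ => if_neg (mul_ne_zero (θ_ne_zero l.ne_zero) ha))
  simp only [φ, if_true, AddChar.map_zero_eq_one, mul_one] at this
  rw [← this]
  exact isGeneralizedCharacter_indFun _ hg

end Cfsg.Agent.SzCh
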